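import Groth.Agent.FlatPure.Projective

/-! The locus where a surjection out of a projective module becomes bijective. -/

set_option autoImplicit false
set_option backward.isDefEq.respectTransparency false
set_option backward.isDefEq.respectTransparency.types false
attribute [-instance] CategoryTheory.catToReflQuiver

universe u

open TensorProduct

namespace Groth.Agent.FlatPure

variable {A : Type u} [CommRing A] {N : Type u} [AddCommGroup N] [Module A N]

/-- The content ideal of an element. -/
def content (x : N) : Ideal A := Ideal.span (Set.range fun φ : N →ₗ[A] A => φ x)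

theorem content_fg [Module.Projective A N] (x : N) : (content (A := A) x).FG := by
  classical
  obtain ⟨s, hs⟩ := Module.projective_def'.1 (inferInstance : Module.Projective A N)
  refine ⟨(s x).support.image (fun y => s x y), le_antisymm ?_ ?_⟩
  · rw [Submodule.span_le, Finset.coe_image]
    rintro _ ⟨y, -, rfl⟩
    exact Ideal.subset_span ⟨(Finsupp.lapply y).comp s, rfl⟩
  · rw [content, Ideal.span_le]
    rintro _ ⟨φ, rfl⟩
    have hx : Finsupp.linearCombination A (id : N → N) (s x) = x := LinearMap.congr_fun hs x
    suffices h : φ (Finsupp.linearCombination A (id : N → N) (s x)) ∈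
        Submodule.span A (((s x).support.image (fun y => s x y) : Finset A) : Set A) by rwa [hx] at h
    rw [Finsupp.linearCombination_apply, Finsupp.sum, map_sum]
    refine sum_mem fun y hy => ?_
    rw [map_smul, smul_eq_mul, mul_comm]
    exact Ideal.mul_mem_left _ _ (Submodule.subset_span (Finset.mem_coe.2 (Finset.mem_image_of_mem _ hy)))

theorem one_tmul_eq_zero_iff [Module.Projective A N] (A' : Type u) [CommRing A'] [Algebra A A'] (x : N) :
    (1 : A') ⊗ₜ[A] x = 0 ↔ (content (A := A) x).map (algebraMap A A') = ⊥ := by
  constructor
  · intro h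
    rw [eq_bot_iff, Ideal.map_le_iff_le_comap, content, Ideal.span_le]
    rintro _ ⟨φ, rfl⟩
    have := congrArg (TensorProduct.rid A A') (congrArg (φ.lTensor A') h)
    rw [map_zero, map_zero, LinearMap.lTensor_tmul, TensorProduct.rid_tmul, ← Algebra.algebraMap_eq_smul_one] at this
    simpa using this
  · intro h
    obtain ⟨s, hs⟩ := Module.projective_def'.1 (inferInstance : Module.Projective A N)
    have hx : Finsupp.linearCombination A (id : N → N) (s x) = x := LinearMap.congr_fun hs x
    rw [← hx, Finsupp.linearCombination_apply, Finsupp.sum, TensorProduct.tmul_sum]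
    refine Finset.sum_eq_zero fun y _ => ?_
    have h0 : algebraMap A A' (s x y) = 0 := by
      have : algebraMap A A' (s x y) ∈ (content (A := A) x).map (algebraMap A A') :=
        Ideal.mem_map_of_mem _ (Ideal.subset_span ⟨(Finsupp.lapply y).comp s, rfl⟩)
      rw [h] at this
      exact this
    rw [← TensorProduct.smul_tmul, ← Algebra.algebraMap_eq_smul_one, h0, TensorProduct.zero_tmul]

set_option maxHeartbeats 800000 in
theorem exists_ideal_bijective {B : Type u} [CommRing B] [Algebra A B] [Module B N] [IsScalarTower A B N]
    [Module.Finite B N] [Module.Projective A N] {N' : Type u} [AddCommGroup N'] [Module B N'] [Module A N']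
    [IsScalarTower A B N'] (u : N →ₗ[B] N') (hu : Function.Surjective u) :
    ∃ I : Ideal A, (∀ (A' : Type u) [CommRing A'] [Algebra A A'],
        Function.Bijective ((u.restrictScalars A).baseChange A') ↔ I.map (algebraMap A A') = ⊥) ∧
      (Module.FinitePresentation B N' → I.FG) := by
  classical
  let K := LinearMap.ker u
  refine ⟨⨆ x : K, content (A := A) (x : N), fun A' _ _ => ?_, fun h => ?_⟩
  · rw [Ideal.map_iSup, iSup_eq_bot]
    simp_rw [← one_tmul_eq_zero_iff]
    let f : K →ₗ[A] N := K.subtype.restrictScalars A
    have hex : Function.Exact f (u.restrictScalars A) := LinearMap.exact_subtype_ker_map u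
    have hex' := lTensor_exact A' hex hu
    constructor
    · intro hb x
      refine hb.1 ?_
      rw [map_zero, LinearMap.baseChange_tmul, LinearMap.coe_restrictScalars, LinearMap.mem_ker.1 x.2,
        TensorProduct.tmul_zero]
    · intro hz
      refine ⟨?_, LinearMap.lTensor_surjective A' hu⟩
      rw [injective_iff_map_eq_zero]
      intro z hzz
      obtain ⟨w, rfl⟩ := (hex' z).1 hzz
      clear hzz
      induction w using TensorProduct.induction_on with
      | zero => rw [map_zero]
      | add a b ha hb => rw [map_add, ha, hb, add_zero]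
      | tmul a k =>
        rw [LinearMap.lTensor_tmul]
        show a ⊗ₜ[A] (k : N) = 0
        rw [← mul_one a, ← smul_eq_mul, ← TensorProduct.smul_tmul', hz k, smul_zero]
  · haveI := h
    obtain ⟨T, hT⟩ := Module.FinitePresentation.fg_ker u hu
    have hmem : ∀ k : {k // k ∈ T}, (k : N) ∈ K := fun k => hT.le (Submodule.subset_span k.2)
    have heq : (⨆ x : K, content (A := A) (x : N)) = ⨆ k : {k // k ∈ T}, content (A := A) (k : N) := by
      refine le_antisymm (iSup_le fun x => ?_) (iSup_le fun k => le_iSup_of_le ⟨k.1, hmem k⟩ le_rfl)
      rw [content, Ideal.span_le]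
      rintro _ ⟨φ, rfl⟩
      have hx : (x : N) ∈ Submodule.span B (T : Set N) := hT.ge x.2
      suffices ∀ y ∈ Submodule.span B (T : Set N), ∀ ψ : N →ₗ[A] A,
          ψ y ∈ ⨆ k : {k // k ∈ T}, content (A := A) (k : N) from this _ hx φ
      intro y hy
      induction hy using Submodule.span_induction with
      | mem y hy => exact fun ψ => Submodule.mem_iSup_of_mem ⟨y, hy⟩ (Ideal.subset_span ⟨ψ, rfl⟩)
      | zero => intro ψ; rw [map_zero]; exact zero_mem _
      | add y z _ _ hy hz => intro ψ; rw [map_add]; exact add_mem (hy ψ) (hz ψ)
      | smul b y _ hy => exact fun ψ => hy (ψ.comp ((LinearMap.lsmul B N b).restrictScalars A))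
    rw [heq]
    exact Submodule.fg_iSup _ fun k => content_fg (k : N)

end Groth.Agent.FlatPure
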