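import Mathlib.RingTheory.IsTensorProduct

/-! Models of base changes of an algebra and a module. -/

set_option autoImplicit false
set_option backward.isDefEq.respectTransparency false
set_option backward.isDefEq.respectTransparency.types false

universe u

open TensorProduct

namespace Groth.Agent.FlatPure

/-- Models of the base changes of `S` and `N` to `A`. -/
theorem exists_base_model (R A S N : Type u) [CommRing R] [CommRing A] [CommRing S] [Algebra R A] [Algebra R S]
    [AddCommGroup N] [Module S N] :
    ∃ (SA NA : Type u) (_ : CommRing SA) (_ : Algebra A SA) (_ : Algebra S SA) (_ : Algebra R SA)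
      (_ : IsScalarTower R A SA) (_ : IsScalarTower R S SA) (_ : AddCommGroup NA) (_ : Module SA NA)
      (_ : Module S NA) (_ : IsScalarTower S SA NA) (_ : Module A NA) (_ : IsScalarTower A SA NA)
      (f : N →ₗ[S] NA), Algebra.IsPushout R A S SA ∧ Algebra.IsPushout R S A SA ∧ IsBaseChange SA f := by
  let SA := A ⊗[R] S
  letI : Algebra S SA := Algebra.TensorProduct.rightAlgebra
  haveI : IsScalarTower R S SA := Algebra.TensorProduct.right_isScalarTower
  haveI hp : Algebra.IsPushout R A S SA := TensorProduct.isPushout (R := R) (S := A) (T := S)
  haveI : SMulCommClass A S SA := ⟨fun a s c => by simp only [Algebra.smul_def]; ring⟩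
  exact ⟨SA, SA ⊗[S] N, inferInstance, inferInstance, inferInstance, inferInstance, inferInstance, inferInstance,
    inferInstance, inferInstance, inferInstance, inferInstance, inferInstance, inferInstance,
    TensorProduct.mk S SA N 1, hp, Algebra.IsPushout.symm hp, TensorProduct.isBaseChange S N SA⟩

end Groth.Agent.FlatPure
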