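import Groth.Agent.FlatPure.AssLift
import Groth.Agent.FlatPure.Model

/-! Purity and closed immersions. -/

set_option autoImplicit false
set_option backward.isDefEq.respectTransparency false
set_option backward.isDefEq.respectTransparency.types false
attribute [-instance] CategoryTheory.catToReflQuiver

universe u

open TensorProduct

namespace Groth.Agent.FlatPure

attribute [local instance] Algebra.TensorProduct.rightAlgebra

theorem assoc_iff_of_surjective {S S' L L' : Type u} [CommRing S] [CommRing S'] [Algebra S S']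
    (hs : Function.Surjective (algebraMap S S')) [AddCommGroup L] [Module S L] [AddCommGroup L'] [Module S' L']
    [Module S L'] [IsScalarTower S S' L'] (e : L ≃ₗ[S] L') :
    (∀ Q : Ideal S', Q ∈ associatedPrimes S' L' → Q.comap (algebraMap S S') ∈ associatedPrimes S L) ∧
      ∀ P : Ideal S, P ∈ associatedPrimes S L →
        ∃ Q : Ideal S', Q ∈ associatedPrimes S' L' ∧ Q.comap (algebraMap S S') = P := by
  have hc : ∀ x : L, (⊥ : Submodule S L).colon {x} =
      ((⊥ : Submodule S' L').colon {e x}).comap (algebraMap S S') := fun x => by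
    ext a
    rw [Submodule.mem_colon_singleton, Ideal.mem_comap, Submodule.mem_colon_singleton, Submodule.mem_bot,
      Submodule.mem_bot, algebraMap_smul, ← map_smul, e.map_eq_zero_iff]
  refine ⟨fun Q hQ => ?_, fun P hP => ?_⟩
  · obtain ⟨hpr, x, hx⟩ := hQ
    haveI := hpr
    refine ⟨Ideal.IsPrime.comap _, e.symm x, ?_⟩
    rw [hc, e.apply_symm_apply, hx, Ideal.comap_radical]
  · obtain ⟨hpr, x, hx⟩ := hP
    haveI := hpr
    refine ⟨((⊥ : Submodule S' L').colon {e x}).radical, ⟨?_, e x, rfl⟩, ?_⟩
    · have h : (((⊥ : Submodule S' L').colon {e x}).radical.comap (algebraMap S S')).IsPrime := by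
        rw [Ideal.comap_radical, ← hc, ← hx]
        exact hpr
      rw [← Ideal.map_comap_of_surjective _ hs ((⊥ : Submodule S' L').colon {e x}).radical]
      haveI := h
      exact Ideal.map_isPrime_of_surjective hs (Ideal.comap_mono bot_le)
    · rw [Ideal.comap_radical, ← hc, ← hx]

theorem surjective_of_isPushout {R S R' S' : Type u} [CommRing R] [CommRing S] [CommRing R'] [CommRing S']
    [Algebra R S] [Algebra R R'] [Algebra S S'] [Algebra R' S'] [Algebra R S'] [IsScalarTower R S S']
    [IsScalarTower R R' S'] [Algebra.IsPushout R S R' S'] (h : Function.Surjective (algebraMap R R')) :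
    Function.Surjective (algebraMap S S') := fun z => by
  obtain ⟨w, rfl⟩ := (Algebra.IsPushout.equiv R S R' S').surjective z
  induction w using TensorProduct.induction_on with
  | zero => exact ⟨0, by simp⟩
  | add a b ha hb =>
    obtain ⟨x, hx⟩ := ha
    obtain ⟨y, hy⟩ := hb
    exact ⟨x + y, by rw [map_add, hx, hy, map_add]⟩
  | tmul s r =>
    obtain ⟨r₀, rfl⟩ := h r
    exact ⟨s * algebraMap R S r₀, by
      rw [Algebra.IsPushout.equiv_tmul, map_mul, ← IsScalarTower.algebraMap_apply, ← IsScalarTower.algebraMap_apply]⟩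

/-- A base change of a module over a quotient is a base change over the ring itself. -/
theorem isBaseChange_of_isPushout {B B' C C' N N' : Type u} [CommRing B] [CommRing B'] [CommRing C] [CommRing C']
    [Algebra B C] [Algebra B B'] [Algebra B' C'] [Algebra C C'] [Algebra B C'] [IsScalarTower B B' C']
    [IsScalarTower B C C'] [Algebra.IsPushout B B' C C'] [AddCommGroup N] [Module C N] [Module B N]
    [IsScalarTower B C N] [AddCommGroup N'] [Module C' N'] [Module C N'] [IsScalarTower C C' N'] [Module B' N']
    [IsScalarTower B' C' N'] [Module B N'] [IsScalarTower B C N'] [IsScalarTower B B' N'] (f : N →ₗ[C] N')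
    (hf : IsBaseChange C' f) : IsBaseChange B' (f.restrictScalars B) :=
  IsBaseChange.of_equiv ((Algebra.IsPushout.cancelBaseChange B B' C C' N).symm.trans (hf.equiv.restrictScalars B'))
    fun n => by
      simp [LinearEquiv.trans_apply, IsBaseChange.equiv_tmul]

set_option maxHeartbeats 1600000 in
theorem fibre_assoc_closed {A B C M : Type u} [CommRing A] [CommRing B] [CommRing C] [Algebra A B] [Algebra B C]
    [Algebra A C] [IsScalarTower A B C] (hBC : Function.Surjective (algebraMap B C)) [AddCommGroup M] [Module C M]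
    [Module B M] [IsScalarTower B C M] (t : Ideal A) [t.IsPrime] :
    (∀ (P : Ideal C) [P.IsPrime] [P.LiesOver t],
        FlatCA.fiberIdeal t P ∈ associatedPrimes (t.Fiber C) (FlatCA.fiberMod t C M) →
        FlatCA.fiberIdeal t (P.comap (algebraMap B C)) ∈ associatedPrimes (t.Fiber B) (FlatCA.fiberMod t B M)) ∧
      ∀ (P : Ideal B) [P.IsPrime] [P.LiesOver t],
        FlatCA.fiberIdeal t P ∈ associatedPrimes (t.Fiber B) (FlatCA.fiberMod t B M) →
        ∃ P' : Ideal C, P'.IsPrime ∧ P'.LiesOver t ∧ P'.comap (algebraMap B C) = P ∧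
          FlatCA.fiberIdeal t P' ∈ associatedPrimes (t.Fiber C) (FlatCA.fiberMod t C M) := by
  let k := t.ResidueField
  let F := t.Fiber B
  let F' := t.Fiber C
  letI : Algebra B F' := ((algebraMap C F').comp (algebraMap B C)).toAlgebra
  haveI : IsScalarTower B C F' := IsScalarTower.of_algebraMap_eq' rfl
  haveI : IsScalarTower A B F' := IsScalarTower.to₁₂₄ A B C F'
  let φ : F →ₐ[k] F' := Algebra.TensorProduct.lift (Algebra.ofId k F') (IsScalarTower.toAlgHom A B F')
    fun _ _ => Commute.all _ _
  letI : Algebra F F' := φ.toRingHom.toAlgebra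
  haveI : IsScalarTower k F F' := IsScalarTower.of_algebraMap_eq fun r => (φ.commutes r).symm
  haveI : IsScalarTower B F F' := IsScalarTower.of_algebraMap_eq fun b => by
    show algebraMap B F' b = Algebra.TensorProduct.lift _ _ _ ((1 : k) ⊗ₜ[A] b)
    rw [Algebra.TensorProduct.lift_tmul, map_one, one_mul]
    rfl
  haveI : IsScalarTower A F F' := IsScalarTower.to₁₃₄ A k F F'
  haveI : Algebra.IsPushout A k B F := TensorProduct.isPushout (R := A) (S := k) (T := B)
  haveI : Algebra.IsPushout A B k F := Algebra.IsPushout.symm inferInstance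
  haveI : Algebra.IsPushout A k C F' := TensorProduct.isPushout (R := A) (S := k) (T := C)
  haveI : Algebra.IsPushout A C k F' := Algebra.IsPushout.symm inferInstance
  haveI : Algebra.IsPushout B C F F' :=
    (Algebra.IsPushout.comp_iff (R := A) (S := B) (R' := k) (S' := F) (T := C) (T' := F')).1 inferInstance
  haveI : Algebra.IsPushout B F C F' := Algebra.IsPushout.symm inferInstance
  let e : F ⊗[B] M ≃ₗ[F] F' ⊗[C] M := (Algebra.IsPushout.cancelBaseChange B F C F' M).symm
  have hs : Function.Surjective (algebraMap F F') := surjective_of_isPushout (R := B) (R' := C) hBC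
  obtain ⟨h1, h2⟩ := assoc_iff_of_surjective hs e
  refine ⟨fun P _ _ hP => ?_, fun P _ _ hP => ?_⟩
  · have hq := h1 _ hP
    haveI : ((FlatCA.fiberIdeal t P).comap (algebraMap F F')).IsPrime := IsAssociatedPrime.isPrime hq
    have he : P.comap (algebraMap B C) =
        ((FlatCA.fiberIdeal t P).comap (algebraMap F F')).comap (algebraMap B F) := by
      conv_lhs => rw [← comap_fiberIdeal t P]
      rw [Ideal.comap_comap, Ideal.comap_comap, ← IsScalarTower.algebraMap_eq B C F',
        ← IsScalarTower.algebraMap_eq B F F']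
    rw [he, RGLib.fiberIdeal_comap t]
    exact hq
  · obtain ⟨Q, hQ, hQc⟩ := h2 _ hP
    haveI : Q.IsPrime := IsAssociatedPrime.isPrime hQ
    refine ⟨Q.comap (algebraMap C F'), Ideal.IsPrime.comap _, ⟨(RGLib.comap_comap_fiber t Q).symm⟩, ?_, ?_⟩
    · conv_rhs => rw [← comap_fiberIdeal t P, ← hQc]
      rw [Ideal.comap_comap, Ideal.comap_comap, ← IsScalarTower.algebraMap_eq B C F',
        ← IsScalarTower.algebraMap_eq B F F']
    · rw [RGLib.fiberIdeal_comap t Q]
      exact hQ

variable {A B C : Type u} [CommRing A] [CommRing B] [CommRing C] [Algebra A B] [Algebra B C] [Algebra A C]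
  [IsScalarTower A B C] {N : Type u} [AddCommGroup N] [Module C N] [Module B N] [IsScalarTower B C N]
  {p : Ideal A} [p.IsPrime]

set_option maxHeartbeats 1600000 in
/-- An impurity on a closed subscheme gives one on the ambient scheme. -/
theorem impurity_push (hBC : Function.Surjective (algebraMap B C)) {A' C' N' : Type u} [CommRing A'] [CommRing C']
    [Algebra A A'] [Algebra C C'] [Algebra A' C'] [Algebra A C'] [IsScalarTower A C C'] [IsScalarTower A A' C']
    [AddCommGroup N'] [Module C' N'] [Module C N'] [IsScalarTower C C' N'] [Module A' N'] [IsScalarTower A' C' N']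
    (f : N →ₗ[C] N') (t' t : Ideal A') [t'.IsPrime] [t.IsPrime] (P : Ideal C') [P.IsPrime]
    (h : FlatCA.IsImpurity A C N p A' C' N' f t' t P) :
    ∃ (B' : Type u) (_ : CommRing B') (_ : Algebra B B') (_ : Algebra A' B') (_ : Algebra A B')
      (_ : IsScalarTower A B B') (_ : IsScalarTower A A' B') (_ : Module B' N') (_ : Module B N')
      (_ : IsScalarTower B B' N') (_ : IsScalarTower A' B' N') (g : N →ₗ[B] N') (Q : Ideal B') (_ : Q.IsPrime),
      FlatCA.IsImpurity A B N p A' B' N' g t' t Q := by
  obtain ⟨hpo, hbc, hle, htp, hPt', hass, hno⟩ := h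
  haveI := hpo; haveI := hPt'
  obtain ⟨B', _, _, _, _, _, _, _, hpo₁, hpo₂, -⟩ : ∃ (B' : Type u) (_ : CommRing B') (_ : Algebra A' B')
      (_ : Algebra B B') (_ : Algebra A B') (_ : IsScalarTower A A' B') (_ : IsScalarTower A B B') (_ : True),
      Algebra.IsPushout A A' B B' ∧ Algebra.IsPushout A B A' B' ∧ True :=
    ⟨A' ⊗[A] B, inferInstance, inferInstance, inferInstance, inferInstance, inferInstance, inferInstance, trivial,
      TensorProduct.isPushout (R := A) (S := A') (T := B),
      Algebra.IsPushout.symm (TensorProduct.isPushout (R := A) (S := A') (T := B)), trivial⟩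
  haveI := hpo₁; haveI := hpo₂
  letI : Algebra B C' := ((algebraMap C C').comp (algebraMap B C)).toAlgebra
  haveI : IsScalarTower B C C' := IsScalarTower.of_algebraMap_eq' rfl
  haveI : IsScalarTower A B C' := IsScalarTower.to₁₂₄ A B C C'
  let ψ : B' →ₐ[A] C' := Algebra.pushoutDesc B' (IsScalarTower.toAlgHom A A' C') (IsScalarTower.toAlgHom A B C')
    fun _ _ => mul_comm _ _
  letI : Algebra B' C' := ψ.toRingHom.toAlgebra
  haveI : IsScalarTower A' B' C' := IsScalarTower.of_algebraMap_eq fun a => by
    show _ = ψ (algebraMap A' B' a)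
    rw [Algebra.pushoutDesc_left]
    rfl
  haveI : IsScalarTower B B' C' := IsScalarTower.of_algebraMap_eq fun a => by
    show _ = ψ (algebraMap B B' a)
    rw [Algebra.pushoutDesc_right]
    rfl
  haveI : IsScalarTower A B' C' := IsScalarTower.to₁₃₄ A A' B' C'
  haveI : Algebra.IsPushout B C B' C' :=
    (Algebra.IsPushout.comp_iff (R := A) (S := B) (R' := A') (S' := B') (T := C) (T' := C')).1 hpo
  haveI : Algebra.IsPushout B B' C C' := Algebra.IsPushout.symm inferInstance
  letI : Module B N' := Module.compHom N' (algebraMap B C)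
  haveI : IsScalarTower B C N' := IsScalarTower.of_algebraMap_smul fun _ _ => rfl
  letI : Module B' N' := Module.compHom N' (algebraMap B' C')
  haveI : IsScalarTower B' C' N' := IsScalarTower.of_algebraMap_smul fun _ _ => rfl
  haveI : IsScalarTower B C' N' := IsScalarTower.to₁₃₄ B C C' N'
  haveI : IsScalarTower B B' N' := IsScalarTower.to₁₂₄ B B' C' N'
  haveI : IsScalarTower A' B' N' := IsScalarTower.to₁₂₄ A' B' C' N'
  have hs : Function.Surjective (algebraMap B' C') := surjective_of_isPushout (R := B) (R' := C) hBC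
  haveI : (P.comap (algebraMap B' C')).IsPrime := Ideal.IsPrime.comap _
  refine ⟨B', inferInstance, inferInstance, inferInstance, inferInstance, inferInstance, inferInstance, inferInstance,
    inferInstance, inferInstance, inferInstance, f.restrictScalars B, P.comap (algebraMap B' C'), inferInstance,
    hpo₂, isBaseChange_of_isPushout f hbc, hle, htp, ⟨?_⟩, (fibre_assoc_closed hs t').1 P hass, fun Q _ hPQ hQt => ?_⟩
  · show t' = (P.comap (algebraMap B' C')).comap (algebraMap A' B')
    rw [Ideal.comap_comap, ← IsScalarTower.algebraMap_eq]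
    exact hPt'.over
  · have hker : RingHom.ker (algebraMap B' C') ≤ Q := (Ideal.comap_mono bot_le).trans hPQ
    haveI := Ideal.map_isPrime_of_surjective hs hker
    have hc : (Q.map (algebraMap B' C')).comap (algebraMap B' C') = Q := by
      rw [Ideal.comap_map_of_surjective _ hs, sup_eq_left]
      exact hker
    refine hno (Q.map (algebraMap B' C')) ?_ ⟨?_⟩
    · rw [← Ideal.map_comap_of_surjective _ hs P]
      exact Ideal.map_mono hPQ
    · show t = (Q.map (algebraMap B' C')).comap (algebraMap A' C')
      rw [IsScalarTower.algebraMap_eq A' B' C', ← Ideal.comap_comap, hc]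
      exact hQt.over

set_option maxHeartbeats 1600000 in
/-- An impurity of a module living on a closed subscheme comes from that subscheme. -/
theorem impurity_pull (hBC : Function.Surjective (algebraMap B C)) {A' B' N' : Type u} [CommRing A'] [CommRing B']
    [Algebra A A'] [Algebra B B'] [Algebra A' B'] [Algebra A B'] [IsScalarTower A B B'] [IsScalarTower A A' B']
    [AddCommGroup N'] [Module B' N'] [Module B N'] [IsScalarTower B B' N'] [Module A' N'] [IsScalarTower A' B' N']
    (f : N →ₗ[B] N') (t' t : Ideal A') [t'.IsPrime] [t.IsPrime] (P : Ideal B') [P.IsPrime]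
    (h : FlatCA.IsImpurity A B N p A' B' N' f t' t P) :
    ∃ (C' M : Type u) (_ : CommRing C') (_ : Algebra C C') (_ : Algebra A' C') (_ : Algebra A C')
      (_ : IsScalarTower A C C') (_ : IsScalarTower A A' C') (_ : AddCommGroup M) (_ : Module C' M) (_ : Module C M)
      (_ : IsScalarTower C C' M) (_ : Module A' M) (_ : IsScalarTower A' C' M) (g : N →ₗ[C] M) (Q : Ideal C')
      (_ : Q.IsPrime), FlatCA.IsImpurity A C N p A' C' M g t' t Q := by
  obtain ⟨hpo, hbc, hle, htp, hPt', hass, hno⟩ := h
  haveI := hpo; haveI := hPt'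
  obtain ⟨C', M, _, _, _, _, _, _, _, _, _, _, _, _, g, hC₁, hC₂, hg⟩ := exists_base_model A A' C N
  haveI := hC₁; haveI := hC₂
  letI : Algebra B C' := ((algebraMap C C').comp (algebraMap B C)).toAlgebra
  haveI : IsScalarTower B C C' := IsScalarTower.of_algebraMap_eq' rfl
  haveI : IsScalarTower A B C' := IsScalarTower.to₁₂₄ A B C C'
  haveI : Algebra.IsPushout A A' B B' := Algebra.IsPushout.symm inferInstance
  let ψ : B' →ₐ[A] C' := Algebra.pushoutDesc B' (IsScalarTower.toAlgHom A A' C') (IsScalarTower.toAlgHom A B C')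
    fun _ _ => mul_comm _ _
  letI : Algebra B' C' := ψ.toRingHom.toAlgebra
  haveI : IsScalarTower A' B' C' := IsScalarTower.of_algebraMap_eq fun a => by
    show _ = ψ (algebraMap A' B' a)
    rw [Algebra.pushoutDesc_left]
    rfl
  haveI : IsScalarTower B B' C' := IsScalarTower.of_algebraMap_eq fun a => by
    show _ = ψ (algebraMap B B' a)
    rw [Algebra.pushoutDesc_right]
    rfl
  haveI : IsScalarTower A B' C' := IsScalarTower.to₁₃₄ A A' B' C'
  haveI : Algebra.IsPushout B C B' C' :=
    (Algebra.IsPushout.comp_iff (R := A) (S := B) (R' := A') (S' := B') (T := C) (T' := C')).1 hC₂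
  haveI : Algebra.IsPushout B B' C C' := Algebra.IsPushout.symm inferInstance
  letI : Module B M := Module.compHom M (algebraMap B C)
  haveI : IsScalarTower B C M := IsScalarTower.of_algebraMap_smul fun _ _ => rfl
  letI : Module B' M := Module.compHom M (algebraMap B' C')
  haveI : IsScalarTower B' C' M := IsScalarTower.of_algebraMap_smul fun _ _ => rfl
  haveI : IsScalarTower B C' M := IsScalarTower.to₁₃₄ B C C' M
  haveI : IsScalarTower B B' M := IsScalarTower.to₁₂₄ B B' C' M
  have hg' := isBaseChange_of_isPushout (B := B) (B' := B') g hg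
  let e : N' ≃ₗ[B'] M := hbc.equiv.symm.trans hg'.equiv
  have hs : Function.Surjective (algebraMap B' C') := surjective_of_isPushout (R := B) (R' := C) hBC
  let eF : FlatCA.fiberMod t' B' N' ≃ₗ[t'.Fiber B'] FlatCA.fiberMod t' B' M :=
    TensorProduct.AlgebraTensorModule.congr (LinearEquiv.refl (t'.Fiber B') (t'.Fiber B')) e
  have hassM : FlatCA.fiberIdeal t' P ∈ associatedPrimes (t'.Fiber B') (FlatCA.fiberMod t' B' M) :=
    IsAssociatedPrime.map_of_injective eF.toLinearMap hass eF.injective
  obtain ⟨Q, hQ, hQt, hQc, hQass⟩ := (fibre_assoc_closed (B := B') (C := C') hs t').2 P hassM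
  haveI := hQ; haveI := hQt
  refine ⟨C', M, inferInstance, inferInstance, inferInstance, inferInstance, inferInstance, inferInstance, inferInstance,
    inferInstance, inferInstance, inferInstance, inferInstance, inferInstance, g, Q, hQ,
    hC₂, hg, hle, htp, hQt, hQass, fun R _ hQR hRt => ?_⟩
  haveI : (R.comap (algebraMap B' C')).IsPrime := Ideal.IsPrime.comap _
  refine hno (R.comap (algebraMap B' C')) (hQc ▸ Ideal.comap_mono hQR) ⟨?_⟩
  show t = (R.comap (algebraMap B' C')).comap (algebraMap A' B')
  rw [Ideal.comap_comap, ← IsScalarTower.algebraMap_eq]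
  exact hRt.over

end Groth.Agent.FlatPure
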