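import Groth.Agent.FlatDevBC.At
import Groth.Agent.FlatDevLoc.Basic
import Groth.Agent.RGLib.Covering
import Mathlib.RingTheory.Ideal.AssociatedPrime.Localization
import Mathlib.RingTheory.Ideal.GoingDown

/-! Associated points of fibres lift to a base change. -/

set_option autoImplicit false
set_option backward.isDefEq.respectTransparency false
set_option backward.isDefEq.respectTransparency.types false
attribute [-instance] CategoryTheory.catToReflQuiver

universe u

open TensorProduct

namespace Groth.Agent.FlatPure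

attribute [local instance] Algebra.TensorProduct.rightAlgebra

/-- Associated primes lift along a faithfully flat map to a Noetherian ring. -/
theorem exists_assoc_over {S S' L L' : Type u} [CommRing S] [CommRing S'] [Algebra S S'] [IsNoetherianRing S]
    [IsNoetherianRing S'] [Module.FaithfullyFlat S S'] [AddCommGroup L] [Module S L] [AddCommGroup L'] [Module S' L']
    [Module S L'] [IsScalarTower S S' L'] (f : L →ₗ[S] L') (hf : IsBaseChange S' f) (P : Ideal S) [P.IsPrime]
    (hP : P ∈ associatedPrimes S L) :
    ∃ Q ∈ associatedPrimes S' L', Q.comap (algebraMap S S') = P := by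
  obtain ⟨-, g, hg⟩ := (isAssociatedPrime_iff_exists_injective_linearMap P L).1
    (show IsAssociatedPrime P L from hP)
  obtain ⟨⟨Q₁, hQ₁⟩, hQ₁c⟩ := PrimeSpectrum.comap_surjective_of_faithfullyFlat (A := S) (B := S')
    (⟨P, ‹P.IsPrime›⟩ : PrimeSpectrum S)
  haveI := hQ₁
  have hle : P.map (algebraMap S S') ≤ Q₁ := Ideal.map_le_iff_le_comap.2 (congrArg PrimeSpectrum.asIdeal hQ₁c).ge
  obtain ⟨Q, hQ, hQQ₁⟩ := Ideal.exists_minimalPrimes_le hle
  haveI := hQ.1.1
  have hQc : Q.comap (algebraMap S S') = P :=
    le_antisymm ((Ideal.comap_mono hQQ₁).trans (congrArg PrimeSpectrum.asIdeal hQ₁c).le)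
      (Ideal.map_le_iff_le_comap.1 hQ.1.2)
  refine ⟨Q, ?_, hQc⟩
  let T := S' ⊗[S] (S ⧸ P)
  let h : T →ₗ[S'] L' := hf.equiv.toLinearMap ∘ₗ g.baseChange S'
  have hh : Function.Injective h := hf.equiv.injective.comp (Module.Flat.lTensor_preserves_injective_linearMap g hg)
  have hann : Module.annihilator S' T = P.map (algebraMap S S') := by
    rw [← (Algebra.TensorProduct.quotIdealMapEquivTensorQuot S' P).toLinearEquiv.annihilator_eq,
      Ideal.annihilator_quotient]
  exact IsAssociatedPrime.map_of_injective h
    (Module.associatedPrimes.minimalPrimes_annihilator_subset_associatedPrimes S' T (hann ▸ hQ)) hh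

theorem comap_fiberIdeal {R S : Type u} [CommRing R] [CommRing S] [Algebra R S] (p : Ideal R) [p.IsPrime]
    (P : Ideal S) [P.IsPrime] [hP : P.LiesOver p] :
    (FlatCA.fiberIdeal p P).comap (algebraMap S (p.Fiber S)) = P := by
  rw [← FlatDevLoc.primesOver_fiberIdeal p P hP]
  exact congrArg (fun z => z.1)
    ((PrimeSpectrum.primesOverOrderIsoFiber R S p).symm_apply_apply ⟨P, ‹P.IsPrime›, hP⟩)

theorem faithfullyFlat_of_field {k K F F' : Type u} [Field k] [Field K] [CommRing F] [CommRing F'] [Algebra k K]
    [Algebra k F] [Algebra F F'] [Algebra K F'] [Algebra k F'] [IsScalarTower k F F'] [IsScalarTower k K F']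
    [Algebra.IsPushout k F K F'] : Module.FaithfullyFlat F F' := by
  haveI : Module.FaithfullyFlat F (F ⊗[k] K) := inferInstance
  exact Module.FaithfullyFlat.of_linearEquiv _ _ (Algebra.IsPushout.equiv k F K F').symm.toLinearEquiv

theorem free_of_field {k K F F' : Type u} [Field k] [Field K] [CommRing F] [CommRing F'] [Algebra k K]
    [Algebra k F] [Algebra F F'] [Algebra K F'] [Algebra k F'] [IsScalarTower k F F'] [IsScalarTower k K F']
    [Algebra.IsPushout k F K F'] : Module.Free F F' :=
  Module.Free.of_equiv (Algebra.IsPushout.equiv k F K F').toLinearEquiv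

/-- Associated primes of a base change to a free algebra contract to associated primes. -/
theorem assoc_comap_of_free {S S' L L' : Type u} [CommRing S] [CommRing S'] [Algebra S S'] [Module.Free S S']
    [AddCommGroup L] [Module S L] [AddCommGroup L'] [Module S' L'] [Module S L'] [IsScalarTower S S' L']
    (f : L →ₗ[S] L') (hf : IsBaseChange S' f) (Q : Ideal S') (hQ : Q ∈ associatedPrimes S' L') :
    Q.comap (algebraMap S S') ∈ associatedPrimes S L := by
  classical
  let ι := Module.Free.ChooseBasisIndex S S'
  let e : L' ≃ₗ[S] ι →₀ L :=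
    (hf.equiv.symm.restrictScalars S).trans ((LinearEquiv.rTensor L (Module.Free.chooseBasis S S').repr).trans
      (TensorProduct.finsuppScalarLeft S L ι))
  obtain ⟨hpr, x, hx⟩ := hQ
  haveI := hpr
  have hP : (Q.comap (algebraMap S S')).IsPrime := Ideal.IsPrime.comap _
  let J : ι → Ideal S := fun i => (⊥ : Submodule S L).colon {e x i}
  have hc : Q.comap (algebraMap S S') = ((e x).support.inf J).radical := by
    rw [hx, Ideal.comap_radical]
    congr 1
    ext a
    rw [Submodule.mem_finsetInf]
    simp only [J, Ideal.mem_comap, Submodule.mem_colon_singleton, Submodule.mem_bot, algebraMap_smul]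
    refine ⟨fun h i _ => ?_, fun h => e.injective ?_⟩
    · rw [← Finsupp.smul_apply, ← map_smul, h, map_zero, Finsupp.zero_apply]
    · rw [map_smul, map_zero]
      refine Finsupp.ext fun i => ?_
      rw [Finsupp.smul_apply, Finsupp.zero_apply]
      by_cases hi : i ∈ (e x).support
      · exact h i hi
      · rw [Finsupp.notMem_support_iff.1 hi, smul_zero]
  have hle : (e x).support.inf J ≤ Q.comap (algebraMap S S') := hc ▸ Ideal.le_radical
  obtain ⟨i, hi, hiP⟩ := (Ideal.IsPrime.inf_le' hP).1 hle
  refine ⟨hP, e x i, le_antisymm ?_ ?_⟩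
  · rw [hc]
    exact Ideal.radical_mono (Finset.inf_le hi)
  · exact (Ideal.IsPrime.radical_le_iff hP).2 hiP

set_option maxHeartbeats 1600000 in
/-- An associated point of a fibre lifts to an associated point of any fibre of a base change above it. -/
theorem fibre_assoc {A A' B B' N N' : Type u} [CommRing A] [CommRing A'] [CommRing B] [CommRing B']
    [Algebra A A'] [Algebra A B] [Algebra A' B'] [Algebra B B'] [Algebra A B'] [IsScalarTower A A' B']
    [IsScalarTower A B B'] [Algebra.IsPushout A A' B B'] [Algebra.FiniteType A B]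
    [AddCommGroup N] [Module B N] [AddCommGroup N'] [Module B' N'] [Module B N'] [IsScalarTower B B' N']
    (f : N →ₗ[B] N') (hf : IsBaseChange B' f)
    (t : Ideal A) [t.IsPrime] (s : Ideal A') [s.IsPrime] [hst : s.LiesOver t]
    : (∀ (P : Ideal B) [P.IsPrime] [P.LiesOver t],
        FlatCA.fiberIdeal t P ∈ associatedPrimes (t.Fiber B) (FlatCA.fiberMod t B N) →
        ∃ P' : Ideal B', P'.IsPrime ∧ P'.LiesOver s ∧ P'.LiesOver P ∧
          FlatCA.fiberIdeal s P' ∈ associatedPrimes (s.Fiber B') (FlatCA.fiberMod s B' N')) ∧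
      (∀ (P' : Ideal B') [P'.IsPrime] [P'.LiesOver s],
          FlatCA.fiberIdeal s P' ∈ associatedPrimes (s.Fiber B') (FlatCA.fiberMod s B' N') →
          (P'.comap (algebraMap B B')).LiesOver t ∧
          FlatCA.fiberIdeal t (P'.comap (algebraMap B B')) ∈
            associatedPrimes (t.Fiber B) (FlatCA.fiberMod t B N)) := by
  let k := t.ResidueField
  let K := s.ResidueField
  letI : Algebra k K := (Ideal.ResidueField.mapₐ t s (Algebra.ofId A A') hst.over).toRingHom.toAlgebra
  haveI : IsScalarTower A k K := IsScalarTower.of_algebraMap_eq fun r =>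
    ((Ideal.ResidueField.mapₐ t s (Algebra.ofId A A') hst.over).commutes r).symm
  let F := t.Fiber B
  let F' := s.Fiber B'
  haveI : Algebra.FiniteType A' B' :=
    Algebra.FiniteType.equiv (inferInstanceAs (Algebra.FiniteType A' (A' ⊗[A] B))) (Algebra.IsPushout.equiv A A' B B')
  haveI : IsNoetherianRing F := RGLib.isNoetherianRing_fiber t
  haveI : IsNoetherianRing F' := RGLib.isNoetherianRing_fiber s
  letI : Algebra B F' := ((algebraMap B' F').comp (algebraMap B B')).toAlgebra
  haveI : IsScalarTower B B' F' := IsScalarTower.of_algebraMap_eq' rfl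
  haveI : Algebra.IsPushout A' K B' F' := TensorProduct.isPushout (R := A') (S := K) (T := B')
  haveI : IsScalarTower A B' F' := IsScalarTower.to₁₃₄ A A' B' F'
  haveI : IsScalarTower A B F' := IsScalarTower.to₁₂₄ A B B' F'
  haveI : IsScalarTower A K F' := IsScalarTower.to₁₃₄ A A' K F'
  haveI : Algebra.IsPushout A K B F' :=
    (Algebra.IsPushout.comp_iff (R := A) (S := A') (R' := B) (S' := B') (T := K) (T' := F')).2 inferInstance
  haveI : Algebra.IsPushout A k B F := TensorProduct.isPushout (R := A) (S := k) (T := B)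
  haveI : IsScalarTower k K F' := IsScalarTower.of_algebraMap_eq fun _ => rfl
  haveI : IsScalarTower A k F' := IsScalarTower.to₁₂₄ A k K F'
  let φ : F →ₐ[k] F' := Algebra.TensorProduct.lift (Algebra.ofId k F') (IsScalarTower.toAlgHom A B F')
    fun _ _ => Commute.all _ _
  letI : Algebra F F' := φ.toRingHom.toAlgebra
  haveI : IsScalarTower k F F' := IsScalarTower.of_algebraMap_eq fun r => (φ.commutes r).symm
  haveI : IsScalarTower B F F' := IsScalarTower.of_algebraMap_eq fun b => by
    show algebraMap B F' b = Algebra.TensorProduct.lift _ _ _ ((1 : k) ⊗ₜ[A] b)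
    rw [Algebra.TensorProduct.lift_tmul, map_one, one_mul]
    rfl
  haveI : IsScalarTower A F F' := IsScalarTower.to₁₃₄ A k F F'
  haveI : Algebra.IsPushout k K F F' :=
    (Algebra.IsPushout.comp_iff (R := A) (S := k) (R' := B) (S' := F) (T := K) (T' := F')).1 inferInstance
  haveI : Algebra.IsPushout k F K F' := Algebra.IsPushout.symm inferInstance
  haveI : Module.FaithfullyFlat F F' := faithfullyFlat_of_field (k := k) (K := K)
  let G := FlatCA.fiberMod t B N
  let G' := FlatCA.fiberMod s B' N'
  have h₁ : IsBaseChange F (TensorProduct.mk B F N 1) := TensorProduct.isBaseChange B N F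
  let g : N →ₗ[B] F' ⊗[B'] N' := ((TensorProduct.mk B' F' N' 1).restrictScalars B).comp f
  have hg : IsBaseChange F' g := hf.comp (TensorProduct.isBaseChange B' N' F')
  let a : F ⊗[B] N →ₗ[F] F' ⊗[B'] N' := h₁.lift g
  have ha : IsBaseChange F' a := IsBaseChange.of_comp h₁ (by
    rw [show ((a.restrictScalars B) ∘ₗ TensorProduct.mk B F N 1) = g from LinearMap.ext fun n => h₁.lift_eq g n]
    exact hg)
  refine ⟨fun P _ _ hP => ?_, fun P' _ _ hP' => ?_⟩
  · haveI : (FlatCA.fiberIdeal t P).IsPrime := IsAssociatedPrime.isPrime hP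
    obtain ⟨Q, hQ, hQc⟩ := exists_assoc_over (L := F ⊗[B] N) (L' := F' ⊗[B'] N') a ha (FlatCA.fiberIdeal t P)
      (hP := hP)
    haveI : Q.IsPrime := IsAssociatedPrime.isPrime hQ
    haveI : (Q.comap (algebraMap B' F')).IsPrime := Ideal.IsPrime.comap _
    refine ⟨Q.comap (algebraMap B' F'), inferInstance, ⟨(RGLib.comap_comap_fiber s Q).symm⟩, ⟨?_⟩, ?_⟩
    · show P = (Q.comap (algebraMap B' F')).comap (algebraMap B B')
      conv_lhs => rw [← comap_fiberIdeal t P, ← hQc]
      rw [Ideal.comap_comap, Ideal.comap_comap, ← IsScalarTower.algebraMap_eq B B' F',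
        ← IsScalarTower.algebraMap_eq B F F']
    · rw [RGLib.fiberIdeal_comap s Q]
      exact hQ
  · haveI : Module.Free F F' := free_of_field (k := k) (K := K)
    have hq := assoc_comap_of_free (L := F ⊗[B] N) (L' := F' ⊗[B'] N') a ha (FlatCA.fiberIdeal s P') hP'
    haveI : ((FlatCA.fiberIdeal s P').comap (algebraMap F F')).IsPrime := IsAssociatedPrime.isPrime hq
    have he : P'.comap (algebraMap B B') =
        ((FlatCA.fiberIdeal s P').comap (algebraMap F F')).comap (algebraMap B F) := by
      conv_lhs => rw [← comap_fiberIdeal s P']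
      rw [Ideal.comap_comap, Ideal.comap_comap, ← IsScalarTower.algebraMap_eq B B' F',
        ← IsScalarTower.algebraMap_eq B F F']
    rw [he, RGLib.fiberIdeal_comap t]
    exact ⟨⟨(RGLib.comap_comap_fiber t _).symm⟩, hq⟩

end Groth.Agent.FlatPure
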