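import Groth.Agent.FlatPure.AssLift
import Groth.Agent.FlatPure.Model

/-! An impurity is witnessed by finitely many elements, hence contracts to small base rings. -/

set_option autoImplicit false
set_option backward.isDefEq.respectTransparency false
set_option backward.isDefEq.respectTransparency.types false
attribute [-instance] CategoryTheory.catToReflQuiver

universe u

open TensorProduct

namespace Groth.Agent.FlatPure

variable {A B N : Type u} [CommRing A] [CommRing B] [Algebra A B] [AddCommGroup N] [Module B N]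

theorem mem_map_exists_list {A' B' : Type u} [CommRing A'] [CommRing B'] [Algebra A A'] [Algebra B B']
    [Algebra A' B'] [Algebra A B'] [IsScalarTower A B B'] [IsScalarTower A A' B'] [Algebra.IsPushout A A' B B']
    (I : Ideal A') (y : B') (hy : y ∈ I.map (algebraMap A' B')) :
    ∃ l : List (A' × B), (∀ x ∈ l, x.1 ∈ I) ∧
      (l.map fun x => algebraMap A' B' x.1 * algebraMap B B' x.2).sum = y := by
  have hy' : y ∈ I • (⊤ : Submodule A' B') := by
    rw [Ideal.smul_top_eq_map]
    exact hy
  refine Submodule.smul_induction_on hy' (fun r hr z hz => ?_) ?_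
  · clear hz
    induction z using (Algebra.IsPushout.out (R := A) (S := A') (R' := B) (S' := B')).inductionOn with
    | zero => exact ⟨[], by simp⟩
    | tmul b =>
      refine ⟨[(r, b)], by simpa using hr, ?_⟩
      simp [Algebra.smul_def]
    | smul a z ih =>
      obtain ⟨l, hl, hs⟩ := ih
      refine ⟨l.map fun x => (a * x.1, x.2), ?_, ?_⟩
      · intro x hx
        obtain ⟨w, hw, rfl⟩ := List.mem_map.1 hx
        exact I.mul_mem_left a (hl w hw)
      · rw [List.map_map, smul_comm, ← hs, Algebra.smul_def, ← List.sum_map_mul_left]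
        congr 1
        refine List.map_congr_left fun x _ => ?_
        simp only [Function.comp_apply, map_mul]
        ring
    | add z w ihz ihw =>
      obtain ⟨l, hl, hs⟩ := ihz
      obtain ⟨l', hl', hs'⟩ := ihw
      refine ⟨l ++ l', fun x hx => (List.mem_append.1 hx).elim (hl x) (hl' x), ?_⟩
      rw [List.map_append, List.sum_append, hs, hs', smul_add]
  · rintro z w ⟨l, hl, hs⟩ ⟨l', hl', hs'⟩
    refine ⟨l ++ l', fun x hx => (List.mem_append.1 hx).elim (hl x) (hl' x), ?_⟩
    rw [List.map_append, List.sum_append, hs, hs']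

/-- The closure of the point `P` misses the fibre over `t`: a finite witness. -/
theorem exists_witness {p : Ideal A} [p.IsPrime]
    {A' B' N' : Type u} [CommRing A'] [CommRing B'] [Algebra A A'] [Algebra B B']
    [Algebra A' B'] [Algebra A B'] [IsScalarTower A B B'] [IsScalarTower A A' B']
    [AddCommGroup N'] [Module B' N'] [Module B N'] [IsScalarTower B B' N'] [Module A' N']
    [IsScalarTower A' B' N'] {f : N →ₗ[B] N'} {t' t : Ideal A'} [t'.IsPrime] [t.IsPrime]
    {P : Ideal B'} [P.IsPrime] (himp : FlatCA.IsImpurity A B N p A' B' N' f t' t P) :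
    ∃ a : A', a ∉ t ∧ ∃ l : List (A' × B), (∀ x ∈ l, x.1 ∈ t) ∧
      algebraMap A' B' a - (l.map fun x => algebraMap A' B' x.1 * algebraMap B B' x.2).sum ∈ P := by
  obtain ⟨hpo, -, -, -, -, -, hno⟩ := himp
  haveI := hpo
  haveI : Algebra.IsPushout A A' B B' := Algebra.IsPushout.symm hpo
  have : ∃ a : A', a ∉ t ∧ algebraMap A' B' a ∈ P ⊔ t.map (algebraMap A' B') := by
    by_contra h
    push Not at h
    have hdisj : Disjoint ((P ⊔ t.map (algebraMap A' B') : Ideal B') : Set B')
        (t.primeCompl.map (algebraMap A' B') : Set B') := by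
      rw [Set.disjoint_left]
      rintro x hx ⟨a, ha, rfl⟩
      exact h a ha hx
    obtain ⟨Q, hQ, hle, hQd⟩ := Ideal.exists_le_prime_disjoint _ _ hdisj
    refine hno Q (le_sup_left.trans hle) ⟨le_antisymm (Ideal.map_le_iff_le_comap.1 (le_sup_right.trans hle)) ?_⟩
    intro a ha
    by_contra hat
    exact Set.disjoint_left.1 hQd ha ⟨a, hat, rfl⟩
  obtain ⟨a, ha, hmem⟩ := this
  obtain ⟨x, hx, y, hy, hxy⟩ := Submodule.mem_sup.1 hmem
  obtain ⟨l, hl, hs⟩ := mem_map_exists_list (A := A) (B := B) t y hy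
  refine ⟨a, ha, l, hl, ?_⟩
  rw [hs, ← hxy, add_sub_cancel_right]
  exact hx

variable [Algebra.FiniteType A B]

set_option maxHeartbeats 1600000 in
/-- An impurity over `A'` contracts to an impurity over a ring containing a witness, at any larger point
not containing the witness. -/
theorem impurity_contract {p : Ideal A} [p.IsPrime]
    {A' B' N' : Type u} [CommRing A'] [CommRing B'] [Algebra A A'] [Algebra B B']
    [Algebra A' B'] [Algebra A B'] [IsScalarTower A B B'] [IsScalarTower A A' B']
    [AddCommGroup N'] [Module B' N'] [Module B N'] [IsScalarTower B B' N'] [Module A' N']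
    [IsScalarTower A' B' N'] {f : N →ₗ[B] N'} {t' t : Ideal A'} [t'.IsPrime] [t.IsPrime]
    {P : Ideal B'} [P.IsPrime] (himp : FlatCA.IsImpurity A B N p A' B' N' f t' t P)
    (a : A') (l : List (A' × B)) (hl : ∀ x ∈ l, x.1 ∈ t)
    (hP : algebraMap A' B' a - (l.map fun x => algebraMap A' B' x.1 * algebraMap B B' x.2).sum ∈ P)
    (A'' : Type u) [CommRing A''] [Algebra A A''] [Algebra A'' A'] [IsScalarTower A A'' A']
    (a'' : A'') (ha'' : algebraMap A'' A' a'' = a)
    (hl'' : ∀ x ∈ l, x.1 ∈ Set.range (algebraMap A'' A'))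
    (w : Ideal A'') [w.IsPrime] [w.LiesOver p] (hw : t.comap (algebraMap A'' A') ≤ w) (haw : a'' ∉ w) :
    ∃ (B'' N'' : Type u) (_ : CommRing B'') (_ : Algebra A'' B'') (_ : Algebra B B'') (_ : Algebra A B'')
      (_ : IsScalarTower A A'' B'') (_ : IsScalarTower A B B'') (_ : AddCommGroup N'') (_ : Module B'' N'')
      (_ : Module B N'') (_ : IsScalarTower B B'' N'') (_ : Module A'' N'') (_ : IsScalarTower A'' B'' N'')
      (f'' : N →ₗ[B] N'') (P'' : Ideal B'') (_ : P''.IsPrime),
      FlatCA.IsImpurity A B N p A'' B'' N'' f'' (t'.comap (algebraMap A'' A')) w P'' := by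
  obtain ⟨hpo, hbc, hle, htp, hPt', hass, -⟩ := himp
  haveI := hpo; haveI := hPt'
  haveI : Algebra.IsPushout A A' B B' := Algebra.IsPushout.symm hpo
  obtain ⟨B'', N'', _, _, _, _, _, _, _, _, _, _, _, _, f'', hpo1, hpo2, hf''⟩ := exists_base_model A A'' B N
  haveI := hpo1; haveI := hpo2
  letI : Algebra A'' B' := ((algebraMap A' B').comp (algebraMap A'' A')).toAlgebra
  haveI : IsScalarTower A'' A' B' := IsScalarTower.of_algebraMap_eq' rfl
  haveI : IsScalarTower A A'' B' := IsScalarTower.to₁₂₄ A A'' A' B'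
  let φ : B'' →ₐ[A] B' := Algebra.pushoutDesc B'' (IsScalarTower.toAlgHom A A'' B') (IsScalarTower.toAlgHom A B B')
    fun _ _ => mul_comm _ _
  letI : Algebra B'' B' := φ.toRingHom.toAlgebra
  haveI : IsScalarTower A'' B'' B' := IsScalarTower.of_algebraMap_eq fun x => by
    show algebraMap A'' B' x = φ (algebraMap A'' B'' x)
    rw [Algebra.pushoutDesc_left]
    rfl
  haveI : IsScalarTower B B'' B' := IsScalarTower.of_algebraMap_eq fun b => by
    show algebraMap B B' b = φ (algebraMap B B'' b)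
    rw [Algebra.pushoutDesc_right]
    rfl
  haveI : IsScalarTower A B'' B' := IsScalarTower.to₁₃₄ A A'' B'' B'
  haveI : Algebra.IsPushout A'' A' B'' B' :=
    (Algebra.IsPushout.comp_iff (R := A) (S := A'') (R' := B) (S' := B'') (T := A') (T' := B')).1 inferInstance
  haveI : Algebra.FiniteType A'' B'' :=
    Algebra.FiniteType.equiv (inferInstanceAs (Algebra.FiniteType A'' (A'' ⊗[A] B)))
      (Algebra.IsPushout.equiv A A'' B B'')
  letI : Module B'' N' := Module.compHom N' (algebraMap B'' B')
  haveI : IsScalarTower B'' B' N' := IsScalarTower.of_algebraMap_smul fun _ _ => rfl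
  haveI : IsScalarTower B B'' N' := IsScalarTower.to₁₂₄ B B'' B' N'
  let g : N'' →ₗ[B''] N' := hf''.lift f
  have hg : IsBaseChange B' g := IsBaseChange.of_comp hf'' (by
    rw [show ((g.restrictScalars B) ∘ₗ f'') = f from LinearMap.ext fun n => hf''.lift_eq f n]; exact hbc)
  haveI : (t'.comap (algebraMap A'' A')).IsPrime := Ideal.IsPrime.comap _
  haveI : t'.LiesOver (t'.comap (algebraMap A'' A')) := ⟨rfl⟩
  obtain ⟨hover, hass''⟩ := (fibre_assoc (A := A'') (A' := A') g hg (t'.comap (algebraMap A'' A')) t').2 P hass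
  refine ⟨B'', N'', inferInstance, inferInstance, inferInstance, inferInstance, inferInstance, inferInstance,
    inferInstance, inferInstance, inferInstance, inferInstance, inferInstance, inferInstance, f'',
    P.comap (algebraMap B'' B'), Ideal.IsPrime.comap _, hpo2, hf'', (Ideal.comap_mono hle).trans hw, inferInstance,
    hover, hass'', fun Q _ hPQ hQw => haw ?_⟩
  haveI := hQw
  have hmem : ∀ l₀ : List (A' × B), (∀ x ∈ l₀, x ∈ l) → ∃ y ∈ Q,
      algebraMap B'' B' y = (l₀.map fun x => algebraMap A' B' x.1 * algebraMap B B' x.2).sum := by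
    intro l₀ h₀
    induction l₀ with
    | nil => exact ⟨0, zero_mem _, by simp⟩
    | cons x l₀ ih =>
      obtain ⟨y, hy, hy'⟩ := ih fun z hz => h₀ z (List.mem_cons_of_mem _ hz)
      have hxl := h₀ x List.mem_cons_self
      obtain ⟨c, hc⟩ := hl'' x hxl
      refine ⟨algebraMap A'' B'' c * algebraMap B B'' x.2 + y, add_mem (Q.mul_mem_right _ ?_) hy, ?_⟩
      · have : c ∈ w := hw (Ideal.mem_comap.2 (hc ▸ hl x hxl))
        rw [Ideal.over_def Q w] at this
        exact this
      · rw [map_add, map_mul, hy', List.map_cons, List.sum_cons, ← IsScalarTower.algebraMap_apply B B'' B',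
          ← IsScalarTower.algebraMap_apply A'' B'' B', IsScalarTower.algebraMap_apply A'' A' B', hc]
  obtain ⟨y, hy, hy'⟩ := hmem l fun _ h => h
  have hx : algebraMap A'' B'' a'' - y ∈ Q := hPQ (Ideal.mem_comap.2 (by
    rw [map_sub, hy', ← IsScalarTower.algebraMap_apply A'' B'' B', IsScalarTower.algebraMap_apply A'' A' B', ha'']
    exact hP))
  rw [Ideal.over_def Q w]
  exact Ideal.mem_comap.2 (by simpa using add_mem hx hy)

set_option maxHeartbeats 1600000 in
/-- An impurity lifts to any base ring containing primes over its two points. -/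
theorem impurity_up {p : Ideal A} [p.IsPrime]
    {A' B' N' : Type u} [CommRing A'] [CommRing B'] [Algebra A A'] [Algebra B B']
    [Algebra A' B'] [Algebra A B'] [IsScalarTower A B B'] [IsScalarTower A A' B']
    [AddCommGroup N'] [Module B' N'] [Module B N'] [IsScalarTower B B' N'] [Module A' N']
    [IsScalarTower A' B' N'] {f : N →ₗ[B] N'} {t' t : Ideal A'} [t'.IsPrime] [t.IsPrime]
    {P : Ideal B'} [P.IsPrime] (himp : FlatCA.IsImpurity A B N p A' B' N' f t' t P)
    (A₂ : Type u) [CommRing A₂] [Algebra A A₂] [Algebra A' A₂] [IsScalarTower A A' A₂]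
    (s' s : Ideal A₂) [s'.IsPrime] [s.IsPrime] [s'.LiesOver t'] [s.LiesOver t] (hss : s' ≤ s) :
    ∃ (B₂ N₂ : Type u) (_ : CommRing B₂) (_ : Algebra A₂ B₂) (_ : Algebra B B₂) (_ : Algebra A B₂)
      (_ : IsScalarTower A A₂ B₂) (_ : IsScalarTower A B B₂) (_ : AddCommGroup N₂) (_ : Module B₂ N₂)
      (_ : Module B N₂) (_ : IsScalarTower B B₂ N₂) (_ : Module A₂ N₂) (_ : IsScalarTower A₂ B₂ N₂)
      (f₂ : N →ₗ[B] N₂) (P₂ : Ideal B₂) (_ : P₂.IsPrime),
      FlatCA.IsImpurity A B N p A₂ B₂ N₂ f₂ s' s P₂ := by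
  obtain ⟨hpo, hbc, -, htp, hPt', hass, hno⟩ := himp
  haveI := hpo; haveI := htp; haveI := hPt'
  haveI : Algebra.IsPushout A A' B B' := Algebra.IsPushout.symm hpo
  haveI : s.LiesOver p := Ideal.LiesOver.trans s t p
  obtain ⟨B₂, N₂, _, _, _, _, _, _, _, _, _, _, _, _, f₂, hpo1, hpo2, hf₂⟩ := exists_base_model A A₂ B N
  haveI := hpo1; haveI := hpo2
  letI : Algebra A' B₂ := ((algebraMap A₂ B₂).comp (algebraMap A' A₂)).toAlgebra
  haveI : IsScalarTower A' A₂ B₂ := IsScalarTower.of_algebraMap_eq' rfl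
  haveI : IsScalarTower A A' B₂ := IsScalarTower.to₁₂₄ A A' A₂ B₂
  let φ : B' →ₐ[A] B₂ := Algebra.pushoutDesc B' (IsScalarTower.toAlgHom A A' B₂) (IsScalarTower.toAlgHom A B B₂)
    fun _ _ => mul_comm _ _
  letI : Algebra B' B₂ := φ.toRingHom.toAlgebra
  haveI : IsScalarTower A' B' B₂ := IsScalarTower.of_algebraMap_eq fun a => by
    show algebraMap A' B₂ a = φ (algebraMap A' B' a)
    rw [Algebra.pushoutDesc_left]
    rfl
  haveI : IsScalarTower B B' B₂ := IsScalarTower.of_algebraMap_eq fun b => by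
    show algebraMap B B₂ b = φ (algebraMap B B' b)
    rw [Algebra.pushoutDesc_right]
    rfl
  haveI : IsScalarTower A B' B₂ := IsScalarTower.to₁₃₄ A A' B' B₂
  haveI : Algebra.IsPushout A' A₂ B' B₂ :=
    (Algebra.IsPushout.comp_iff (R := A) (S := A') (R' := B) (S' := B') (T := A₂) (T' := B₂)).1 inferInstance
  haveI : Algebra.FiniteType A' B' :=
    Algebra.FiniteType.equiv (inferInstanceAs (Algebra.FiniteType A' (A' ⊗[A] B))) (Algebra.IsPushout.equiv A A' B B')
  letI : Module B' N₂ := Module.compHom N₂ (algebraMap B' B₂)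
  haveI : IsScalarTower B' B₂ N₂ := IsScalarTower.of_algebraMap_smul fun _ _ => rfl
  haveI : IsScalarTower B B' N₂ := IsScalarTower.to₁₂₄ B B' B₂ N₂
  let g : N' →ₗ[B'] N₂ := hbc.lift f₂
  have hg : IsBaseChange B₂ g := IsBaseChange.of_comp hbc (by
    rw [show ((g.restrictScalars B) ∘ₗ f) = f₂ from LinearMap.ext fun n => hbc.lift_eq f₂ n]; exact hf₂)
  obtain ⟨P₂, hP₂, hP₂s, hP₂P, hass₂⟩ := (fibre_assoc (A := A') (A' := A₂) g hg t' s').1 P hass
  refine ⟨B₂, N₂, inferInstance, inferInstance, inferInstance, inferInstance, inferInstance, inferInstance,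
    inferInstance, inferInstance, inferInstance, inferInstance, inferInstance, inferInstance, f₂, P₂, hP₂,
    hpo2, hf₂, hss, inferInstance, hP₂s, hass₂, fun Q hQ hPQ hQs => ?_⟩
  haveI := hQs
  haveI : (Q.comap (algebraMap B' B₂)).IsPrime := Ideal.IsPrime.comap _
  refine hno (Q.comap (algebraMap B' B₂)) ?_ ⟨?_⟩
  · rw [hP₂P.over]
    exact Ideal.comap_mono hPQ
  · show t = (Q.comap (algebraMap B' B₂)).comap (algebraMap A' B')
    rw [Ideal.comap_comap, ← IsScalarTower.algebraMap_eq, IsScalarTower.algebraMap_eq A' A₂ B₂, ← Ideal.comap_comap]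
    show t = (Q.under A₂).comap (algebraMap A' A₂)
    rw [← hQs.over]
    exact Ideal.LiesOver.over

end Groth.Agent.FlatPure
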