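import Groth.Agent.FlatPure.Univ
import Groth.Agent.RGLib.AssSpec
import Mathlib.RingTheory.Unramified.Finite

/-! Purity tested on a pure etale cover. -/

set_option autoImplicit false
set_option backward.isDefEq.respectTransparency false
set_option backward.isDefEq.respectTransparency.types false
attribute [-instance] CategoryTheory.catToReflQuiver

universe u

open TensorProduct IsLocalRing

namespace Groth.Agent.FlatPure

attribute [local instance] Algebra.TensorProduct.rightAlgebra

theorem etale_of_isPushout {R S R' S' : Type u} [CommRing R] [CommRing S] [CommRing R'] [CommRing S']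
    [Algebra R S] [Algebra R R'] [Algebra S S'] [Algebra R' S'] [Algebra R S'] [IsScalarTower R S S']
    [IsScalarTower R R' S'] [Algebra.IsPushout R S R' S'] [Algebra.Etale R R'] : Algebra.Etale S S' :=
  Algebra.Etale.of_equiv (Algebra.IsPushout.equiv R S R' S')

/-- Flatness at a point passes to an etale neighbourhood of base and source. -/
theorem flatAt_up {A B A' B' N N' : Type u} [CommRing A] [CommRing B] [Algebra A B] [CommRing A'] [CommRing B']
    [Algebra A A'] [Algebra B B'] [Algebra A' B'] [Algebra A B'] [IsScalarTower A B B'] [IsScalarTower A A' B']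
    [Algebra.Etale A A'] [Module.Flat B B'] [AddCommGroup N] [Module B N] [Module A N] [IsScalarTower A B N]
    [AddCommGroup N'] [Module B' N'] [Module B N'] [IsScalarTower B B' N'] [Module A' N'] [IsScalarTower A' B' N']
    (f : N →ₗ[B] N') (hf : IsBaseChange B' f) (p : Ideal A) [p.IsPrime] (p' : Ideal A') [p'.IsPrime] [p'.LiesOver p]
    (hflat : ∀ (q : Ideal B) [q.IsPrime], q.LiesOver p → FlatCA.FlatAt A q N) (q' : Ideal B') [q'.IsPrime]
    [q'.LiesOver p'] : FlatCA.FlatAt A' q' N' := by
  let q : Ideal B := q'.comap (algebraMap B B')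
  haveI : q.IsPrime := Ideal.IsPrime.comap _
  haveI : q'.LiesOver q := ⟨rfl⟩
  have hqp : q.LiesOver p := ⟨by
    show p = (q'.comap (algebraMap B B')).comap (algebraMap A B)
    rw [Ideal.comap_comap, ← IsScalarTower.algebraMap_eq, IsScalarTower.algebraMap_eq A A' B', ← Ideal.comap_comap]
    show p = (q'.under A').comap (algebraMap A A')
    rw [← Ideal.over_def q' p']
    exact Ideal.LiesOver.over⟩
  letI : Module A N' := Module.compHom N' (algebraMap A A')
  haveI : IsScalarTower A A' N' := IsScalarTower.of_algebraMap_smul fun _ _ => rfl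
  haveI : IsScalarTower A B' N' := IsScalarTower.to₁₃₄ A A' B' N'
  have h1 : FlatCA.FlatAt A q' N' := (DevEtale.flatAt_iff_of_flat A f hf q q').1 (hflat q hqp)
  haveI : Module.Flat A (LocalizedModule q'.primeCompl N') := h1
  haveI : IsScalarTower A A' (LocalizedModule q'.primeCompl N') := inferInstance
  show Module.Flat A' (LocalizedModule q'.primeCompl N')
  exact Algebra.FormallyUnramified.flat_of_restrictScalars A A' _

set_option maxHeartbeats 1600000 in
theorem covers_of_isPureAlong {A B A' B' BA N NA : Type u} [CommRing A] [CommRing B] [Algebra A B]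
    [Algebra.FiniteType A B] [CommRing A'] [Algebra A A'] [CommRing B'] [Algebra B B'] [Algebra A' B'] [Algebra A B']
    [IsScalarTower A B B'] [IsScalarTower A A' B'] [Algebra.Etale B B'] [CommRing BA] [Algebra B BA] [Algebra A' BA]
    [Algebra A BA] [IsScalarTower A B BA] [IsScalarTower A A' BA] [Algebra.IsPushout A B A' BA] [Algebra BA B']
    [IsScalarTower B BA B'] [IsScalarTower A' BA B']
    [AddCommGroup N] [Module B N] [Module A N] [IsScalarTower A B N] [Module.Finite B N]
    [AddCommGroup NA] [Module BA NA] [Module B NA] [IsScalarTower B BA NA] [Module A' NA] [IsScalarTower A' BA NA]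
    (fA : N →ₗ[B] NA) (hfA : IsBaseChange BA fA) (p : Ideal A) [p.IsPrime] (p' : Ideal A') [p'.IsPrime]
    (het : FlatCA.IsEtaleNhd A A' p p')
    (hflat : ∀ (q : Ideal B) [q.IsPrime], q.LiesOver p → FlatCA.FlatAt A q N)
    (hcov : ∀ (q : Ideal B) [q.IsPrime], q.LiesOver p →
      FlatCA.fiberIdeal p q ∈ associatedPrimes (p.Fiber B) (FlatCA.fiberMod p B N) →
      ∃ q' : Ideal B', q'.IsPrime ∧ q'.comap (algebraMap B B') = q ∧ q'.comap (algebraMap A' B') = p')
    (hpure : FlatCA.IsPureAlong A B N p)
    (t' : Ideal A') [t'.IsPrime] (hle : t' ≤ p') (Q : Ideal BA) [Q.IsPrime] (hQ : Q.LiesOver t')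
    (hass : FlatCA.fiberIdeal t' Q ∈ associatedPrimes (t'.Fiber BA) (FlatCA.fiberMod t' BA NA)) :
    ∃ Q' : Ideal B', Q'.IsPrime ∧ Q'.comap (algebraMap BA B') = Q := by
  obtain ⟨heA, hp', hκ⟩ := id het
  haveI := heA; haveI := hp'
  haveI : Algebra.IsPushout A A' B BA := Algebra.IsPushout.symm inferInstance
  haveI : Algebra.Etale B BA := etale_of_isPushout (R := A) (S := B) (R' := A') (S' := BA)
  haveI : Algebra.Etale BA B' := Algebra.Etale.of_restrictScalars B BA B'
  haveI : Algebra.FiniteType A' BA :=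
    Algebra.FiniteType.equiv (inferInstanceAs (Algebra.FiniteType A' (A' ⊗[A] B))) (Algebra.IsPushout.equiv A A' B BA)
  haveI : Module.Finite BA NA := Module.Finite.equiv hfA.equiv
  obtain ⟨P', hP', hQP, hPp⟩ : ∃ P' : Ideal BA, ∃ _ : P'.IsPrime, Q ≤ P' ∧ P'.LiesOver p' := by
    by_contra hno
    push Not at hno
    exact hpure A' BA NA fA t' p' Q het
      ⟨inferInstance, hfA, hle, hp', hQ, hass, fun P hP hle hover => hno P hP hle hover⟩
  haveI := hPp; haveI := hQ
  obtain ⟨P, hP, hQPc, -⟩ := RGLib.exists_assoc_specialization (R := A') (S := BA) (N := NA) p' t' Q hass P' hQP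
    (flatAt_up fA hfA p p' hflat P')
  haveI : P.IsPrime := IsAssociatedPrime.isPrime hP
  let P'' : Ideal BA := P.comap (algebraMap BA (p'.Fiber BA))
  haveI : P''.IsPrime := Ideal.IsPrime.comap _
  haveI : P''.LiesOver p' := ⟨(RGLib.comap_comap_fiber p' P).symm⟩
  have hP'' : FlatCA.fiberIdeal p' P'' ∈ associatedPrimes (p'.Fiber BA) (FlatCA.fiberMod p' BA NA) :=
    (RGLib.fiberIdeal_comap p' P).symm ▸ hP
  obtain ⟨hq, hqass⟩ := (fibre_assoc (A := A) (A' := A') (B := B) (B' := BA) fA hfA p p').2 P'' hP''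
  let q : Ideal B := P''.comap (algebraMap B BA)
  haveI : q.IsPrime := Ideal.IsPrime.comap _
  obtain ⟨q', hq', hq'q, hq'p⟩ := hcov q hq hqass
  haveI := hq'
  let y : Ideal BA := q'.comap (algebraMap BA B')
  haveI : y.IsPrime := Ideal.IsPrime.comap _
  haveI : y.LiesOver q := ⟨by
    show q = (q'.comap (algebraMap BA B')).comap (algebraMap B BA)
    rw [Ideal.comap_comap, ← IsScalarTower.algebraMap_eq, hq'q]⟩
  haveI : y.LiesOver p' := ⟨by
    show p' = (q'.comap (algebraMap BA B')).comap (algebraMap A' BA)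
    rw [Ideal.comap_comap, ← IsScalarTower.algebraMap_eq, hq'p]⟩
  haveI : P''.LiesOver q := ⟨rfl⟩
  have hy : P'' = y := FlatDevBC.eq_of_liesOver (R := A) (R' := A') (T := B) (T' := BA) p p' hκ q P'' y
  haveI : q'.LiesOver y := ⟨rfl⟩
  have hQy : Q ≤ y := hy ▸ hQPc
  obtain ⟨Q', -, hQ'p, hQ'Q⟩ := Ideal.exists_ideal_le_liesOver_of_le (R := BA) (S := B') q' hQy
  exact ⟨Q', hQ'p, hQ'Q.over.symm⟩

set_option maxHeartbeats 1600000 in
theorem isPureAlong_of_covers {A B A' B' BA N N' NA : Type u} [CommRing A] [CommRing B] [Algebra A B]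
    [Algebra.FiniteType A B] [CommRing A'] [Algebra A A'] [CommRing B'] [Algebra B B'] [Algebra A' B'] [Algebra A B']
    [IsScalarTower A B B'] [IsScalarTower A A' B'] [Algebra.Etale B B'] [Algebra.FiniteType A' B'] [CommRing BA]
    [Algebra B BA] [Algebra A' BA] [Algebra A BA] [IsScalarTower A B BA] [IsScalarTower A A' BA]
    [Algebra.IsPushout A B A' BA] [Algebra BA B'] [IsScalarTower B BA B'] [IsScalarTower A' BA B']
    [AddCommGroup N] [Module B N] [Module A N] [IsScalarTower A B N] [Module.Finite B N]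
    [AddCommGroup N'] [Module B' N'] [Module B N'] [IsScalarTower B B' N'] [Module A' N'] [IsScalarTower A' B' N']
    (f : N →ₗ[B] N') (hf : IsBaseChange B' f)
    [AddCommGroup NA] [Module BA NA] [Module B NA] [IsScalarTower B BA NA] [Module A' NA] [IsScalarTower A' BA NA]
    (fA : N →ₗ[B] NA) (hfA : IsBaseChange BA fA) (p : Ideal A) [p.IsPrime] (p' : Ideal A') [p'.IsPrime]
    (het : FlatCA.IsEtaleNhd A A' p p')
    (hflat : ∀ (q : Ideal B) [q.IsPrime], q.LiesOver p → FlatCA.FlatAt A q N)
    (hpure : FlatCA.IsPureAlong A' B' N' p')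
    (hcov : ∀ (t' : Ideal A') [t'.IsPrime], t' ≤ p' → ∀ (Q : Ideal BA) [Q.IsPrime], Q.LiesOver t' →
        FlatCA.fiberIdeal t' Q ∈ associatedPrimes (t'.Fiber BA) (FlatCA.fiberMod t' BA NA) →
        ∃ Q' : Ideal B', Q'.IsPrime ∧ Q'.comap (algebraMap BA B') = Q) :
    FlatCA.IsPureAlong A B N p := by
  obtain ⟨heA, hp', -⟩ := id het
  haveI := heA; haveI := hp'
  haveI : Algebra.IsPushout A A' B BA := Algebra.IsPushout.symm inferInstance
  haveI : Algebra.Etale B BA := etale_of_isPushout (R := A) (S := B) (R' := A') (S' := BA)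
  haveI : Algebra.Etale BA B' := Algebra.Etale.of_restrictScalars B BA B'
  haveI : Algebra.FiniteType A' BA :=
    Algebra.FiniteType.equiv (inferInstanceAs (Algebra.FiniteType A' (A' ⊗[A] B))) (Algebra.IsPushout.equiv A A' B BA)
  haveI : Module.Finite BA NA := Module.Finite.equiv hfA.equiv
  haveI : Module.Finite B' N' := Module.Finite.equiv hf.equiv
  letI : Module BA N' := Module.compHom N' (algebraMap BA B')
  haveI : IsScalarTower BA B' N' := IsScalarTower.of_algebraMap_smul fun _ _ => rfl
  haveI : IsScalarTower B BA N' := IsScalarTower.to₁₂₄ B BA B' N'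
  let u : NA →ₗ[BA] N' := hfA.lift f
  have hu : IsBaseChange B' u := IsBaseChange.of_comp hfA (by
    rw [show ((u.restrictScalars B) ∘ₗ fA) = f from LinearMap.ext fun n => hfA.lift_eq f n]
    exact hf)
  obtain ⟨A'', _, _, p'', _, het'', hproj⟩ := exists_projective_local (R := A') (S := B') N' p'
    (fun q _ hq => flatAt_up f hf p p' hflat q) hpure
  obtain ⟨heA'', hp'', -⟩ := het''
  haveI := heA''; haveI := hp''
  obtain ⟨BT, NT, _, _, _, _, _, _, _, _, _, _, _, _, g, hpoT', hpoT, hg⟩ :=
    exists_base_model A' (Localization.AtPrime p'') BA NA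
  obtain ⟨CT, MT, _, _, _, _, _, _, _, _, _, _, _, _, g', hpoC', hpoC, hg'⟩ :=
    exists_base_model A' (Localization.AtPrime p'') B' N'
  haveI := hpoT'; haveI := hpoT; haveI := hpoC'; haveI := hpoC
  haveI := hproj CT MT g' hg'
  let φ : BT →ₐ[A'] CT := Algebra.pushoutDesc BT (IsScalarTower.toAlgHom A' (Localization.AtPrime p'') CT)
    ((IsScalarTower.toAlgHom A' B' CT).comp (IsScalarTower.toAlgHom A' BA B')) fun _ _ => mul_comm _ _
  letI : Algebra BT CT := φ.toRingHom.toAlgebra
  letI : Algebra BA CT := ((algebraMap B' CT).comp (algebraMap BA B')).toAlgebra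
  haveI : IsScalarTower BA B' CT := IsScalarTower.of_algebraMap_eq' rfl
  haveI : IsScalarTower BA BT CT := IsScalarTower.of_algebraMap_eq fun b => by
    show algebraMap B' CT (algebraMap BA B' b) = φ (algebraMap BA BT b)
    rw [Algebra.pushoutDesc_right]
    rfl
  haveI : IsScalarTower (Localization.AtPrime p'') BT CT := IsScalarTower.of_algebraMap_eq fun a => by
    show _ = φ (algebraMap (Localization.AtPrime p'') BT a)
    rw [Algebra.pushoutDesc_left]
    rfl
  haveI : IsScalarTower A' BA CT := IsScalarTower.to₁₂₄ A' BA B' CT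
  haveI : IsScalarTower A' BT CT := IsScalarTower.to₁₃₄ A' (Localization.AtPrime p'') BT CT
  haveI : Algebra.IsPushout A' BA (Localization.AtPrime p'') BT := hpoT
  haveI : Algebra.IsPushout BA B' BT CT :=
    (Algebra.IsPushout.comp_iff (R := A') (S := BA) (R' := Localization.AtPrime p'') (S' := BT) (T := B')
      (T' := CT)).1 hpoC
  haveI : Algebra.IsPushout BA BT B' CT := Algebra.IsPushout.symm inferInstance
  haveI : Algebra.Etale BT CT := etale_of_isPushout (R := BA) (S := BT) (R' := B') (S' := CT)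
  haveI : Algebra.FiniteType (Localization.AtPrime p'') BT :=
    Algebra.FiniteType.equiv
      (inferInstanceAs (Algebra.FiniteType (Localization.AtPrime p'') (Localization.AtPrime p'' ⊗[A'] BA)))
      (Algebra.IsPushout.equiv A' (Localization.AtPrime p'') BA BT)
  haveI : Module.Finite BT NT := Module.Finite.equiv hg.equiv
  letI : Module BA MT := Module.compHom MT (algebraMap BA CT)
  haveI : IsScalarTower BA CT MT := IsScalarTower.of_algebraMap_smul fun _ _ => rfl
  haveI : IsScalarTower BA B' MT := IsScalarTower.to₁₂₄ BA B' CT MT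
  letI : Module BT MT := Module.compHom MT (algebraMap BT CT)
  haveI : IsScalarTower BT CT MT := IsScalarTower.of_algebraMap_smul fun _ _ => rfl
  haveI : IsScalarTower BA BT MT := IsScalarTower.to₁₂₄ BA BT CT MT
  let l : NA →ₗ[BA] MT := (g'.restrictScalars BA).comp u
  have hl : IsBaseChange CT l := hu.comp hg'
  let w : NT →ₗ[BT] MT := hg.lift l
  have hw : IsBaseChange CT w := IsBaseChange.of_comp hg (by
    rw [show ((w.restrictScalars BA) ∘ₗ g) = l from LinearMap.ext fun n => hg.lift_eq l n]
    exact hl)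
  haveI : Module.Projective (Localization.AtPrime p'') (CT ⊗[BT] NT) :=
    Module.Projective.of_equiv (hw.equiv.restrictScalars (Localization.AtPrime p'')).symm
  have hcov' : Covers (Localization.AtPrime p'') BT CT NT := by
    intro t Q _ _ hQt hassQ
    let t' : Ideal A' := t.comap (algebraMap A' (Localization.AtPrime p''))
    haveI : t'.IsPrime := Ideal.IsPrime.comap _
    haveI : t.LiesOver t' := ⟨rfl⟩
    have hle : t' ≤ p' := by
      rw [hp''.over]
      show t' ≤ p''.comap (algebraMap A' A'')
      rw [← Localization.AtPrime.comap_maximalIdeal (I := p''), Ideal.comap_comap,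
        ← IsScalarTower.algebraMap_eq]
      exact Ideal.comap_mono (IsLocalRing.le_maximalIdeal ‹t.IsPrime›.ne_top)
    obtain ⟨hQ₀, hass₀⟩ :=
      (fibre_assoc (A := A') (A' := Localization.AtPrime p'') (B := BA) (B' := BT) g hg t' t).2 Q hassQ
    haveI : (Q.comap (algebraMap BA BT)).IsPrime := Ideal.IsPrime.comap _
    obtain ⟨Q₀', hQ₀', hc⟩ := hcov t' hle (Q.comap (algebraMap BA BT)) hQ₀ hass₀
    haveI := hQ₀'
    obtain ⟨Q', hQ', hQ'Q, -⟩ :=
      S6919.exists_prime_over (R := BA) (S := BT) (R' := B') (S' := CT) Q Q₀' hc.symm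
    exact ⟨Q', hQ', hQ'Q⟩
  haveI : Module.Projective (Localization.AtPrime p'') NT :=
    projective_of_covering (A := Localization.AtPrime p'') (B := BT) (C := CT) NT hcov'
  letI : Algebra A (Localization.AtPrime p'') :=
    ((algebraMap A' (Localization.AtPrime p'')).comp (algebraMap A A')).toAlgebra
  haveI : IsScalarTower A A' (Localization.AtPrime p'') := IsScalarTower.of_algebraMap_eq' rfl
  letI : Algebra A BT := ((algebraMap BA BT).comp (algebraMap A BA)).toAlgebra
  haveI : IsScalarTower A BA BT := IsScalarTower.of_algebraMap_eq' rfl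
  haveI : IsScalarTower A A' BT := IsScalarTower.of_algebraMap_eq fun a => by
    show algebraMap BA BT (algebraMap A BA a) = _
    rw [IsScalarTower.algebraMap_apply A A' BA, ← IsScalarTower.algebraMap_apply A' BA BT]
  haveI : IsScalarTower A (Localization.AtPrime p'') BT :=
    IsScalarTower.to₁₃₄ A A' (Localization.AtPrime p'') BT
  letI : Algebra B BT := ((algebraMap BA BT).comp (algebraMap B BA)).toAlgebra
  haveI : IsScalarTower B BA BT := IsScalarTower.of_algebraMap_eq' rfl
  haveI : IsScalarTower A B BT := IsScalarTower.to₁₂₄ A B BA BT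
  haveI hA : Algebra.IsPushout A (Localization.AtPrime p'') B BT :=
    (Algebra.IsPushout.comp_iff (R := A) (S := A') (R' := B) (S' := BA) (T := Localization.AtPrime p'')
      (T' := BT)).2 hpoT'
  haveI : Algebra.IsPushout A B (Localization.AtPrime p'') BT := Algebra.IsPushout.symm hA
  letI : Module B NT := Module.compHom NT (algebraMap B BA)
  haveI : IsScalarTower B BA NT := IsScalarTower.of_algebraMap_smul fun _ _ => rfl
  haveI : IsScalarTower B BT NT := IsScalarTower.to₁₃₄ B BA BT NT
  haveI : Module.Flat A' (Localization.AtPrime p'') := flat_atPrime p''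
  haveI : Module.Flat A (Localization.AtPrime p'') := Module.Flat.trans A A' _
  haveI : (maximalIdeal (Localization.AtPrime p'')).LiesOver p'' := ⟨(Localization.AtPrime.comap_maximalIdeal).symm⟩
  haveI : (maximalIdeal (Localization.AtPrime p'')).LiesOver p' :=
    Ideal.LiesOver.trans (maximalIdeal (Localization.AtPrime p'')) p'' p'
  haveI : (maximalIdeal (Localization.AtPrime p'')).LiesOver p :=
    Ideal.LiesOver.trans (maximalIdeal (Localization.AtPrime p'')) p' p
  have hk : IsBaseChange BT ((g.restrictScalars B).comp fA) := hfA.comp hg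
  intro A₁ B₁ N₁ _ _ _ _ _ _ _ _ _ _ _ _ _ _ f₁ s' s _ _ P _ _ himp
  exact isUnivPureAlong_of_model (A := Localization.AtPrime p'') _ hk p A₁ B₁ N₁ f₁ s' s P himp

end Groth.Agent.FlatPure
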