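import Groth.Agent.FlatPure.Covering
import Groth.Agent.FlatPure.AssLift
import Groth.Agent.SpreadInj.Model
import Mathlib.LinearAlgebra.TensorProduct.Pi

/-! Covering the associated points of fibres is an open condition on the base. -/

set_option autoImplicit false
set_option backward.isDefEq.respectTransparency false
set_option backward.isDefEq.respectTransparency.types false
attribute [-instance] CategoryTheory.catToReflQuiver

universe u

open TensorProduct

namespace Groth.Agent.FlatPure

attribute [local instance] Algebra.TensorProduct.rightAlgebra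

variable {R T : Type u} [CommRing R] [CommRing T] [Algebra R T] {NT : Type u} [AddCommGroup NT] [Module T NT]
  [Module R NT] [IsScalarTower R T NT]

/-- Multiplication by a finite family of elements. -/
noncomputable def famSmul {ι : Type u} (c : ι → T) : NT →ₗ[T] ι → NT :=
  LinearMap.pi fun i => LinearMap.lsmul T NT (c i)

theorem fibre_ker_iff {ι : Type u} [Fintype ι] [DecidableEq ι] (c : ι → T) (t : Ideal R) [t.IsPrime]
    (w : (t.Fiber T) ⊗[T] NT) :
    ((famSmul c).restrictScalars R).lTensor t.ResidueField
        (Algebra.IsPushout.cancelBaseChange R t.ResidueField T (t.Fiber T) NT w) = 0 ↔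
      ∀ i, algebraMap T (t.Fiber T) (c i) • w = 0 := by
  let k := t.ResidueField
  let e := Algebra.IsPushout.cancelBaseChange R k T (t.Fiber T) NT
  have key : ∀ (i : ι) (v : k ⊗[R] NT),
      e.symm (((LinearMap.lsmul T NT (c i)).restrictScalars R).lTensor k v) =
        algebraMap T (t.Fiber T) (c i) • e.symm v := fun i v => by
    induction v using TensorProduct.induction_on with
    | zero => simp only [map_zero, smul_zero]
    | add x y hx hy => simp only [map_add, smul_add, hx, hy]
    | tmul a m =>
      simp only [e, LinearMap.lTensor_tmul, LinearMap.coe_restrictScalars, LinearMap.lsmul_apply,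
        Algebra.IsPushout.cancelBaseChange_symm_tmul]
      rw [TensorProduct.tmul_smul, ← algebraMap_smul (t.Fiber T) (c i)]
  have hπ : ∀ (i : ι) (v : k ⊗[R] NT),
      TensorProduct.piRight R R k (fun _ : ι => NT) (((famSmul c).restrictScalars R).lTensor k v) i =
        ((LinearMap.lsmul T NT (c i)).restrictScalars R).lTensor k v := fun i v => by
    induction v using TensorProduct.induction_on with
    | zero => simp
    | add x y hx hy => simp only [map_add, Pi.add_apply, hx, hy]
    | tmul a m => simp [famSmul]
  constructor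
  · intro h i
    have h1 := hπ i (e w)
    rw [h, map_zero, Pi.zero_apply] at h1
    have h2 := key i (e w)
    rw [← h1, map_zero, e.symm_apply_apply] at h2
    exact h2.symm
  · intro h
    refine (TensorProduct.piRight R R k (fun _ : ι => NT)).injective ?_
    rw [map_zero]
    funext i
    rw [hπ, Pi.zero_apply]
    refine e.symm.injective ?_
    rw [key, map_zero, e.symm_apply_apply, h i]

variable {C : Type u} [CommRing C] [Algebra T C]

/-- The associated points of the fibre at `t` are covered exactly when the family acts injectively there. -/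
theorem covered_iff_injective [Algebra.FiniteType R T] {ι : Type u} [Fintype ι] [DecidableEq ι] (c : ι → T)
    (hc : Set.range (PrimeSpectrum.comap (algebraMap T C)) = (PrimeSpectrum.zeroLocus (Set.range c))ᶜ)
    (t : Ideal R) [t.IsPrime] :
    Function.Injective (((famSmul (NT := NT) c).restrictScalars R).lTensor t.ResidueField) ↔
      ∀ (Q : Ideal T) [Q.IsPrime] [Q.LiesOver t],
        FlatCA.fiberIdeal t Q ∈ associatedPrimes (t.Fiber T) (FlatCA.fiberMod t T NT) →
        ∃ Q' : Ideal C, Q'.IsPrime ∧ Q'.comap (algebraMap T C) = Q := by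
  haveI : IsNoetherianRing (t.Fiber T) := RGLib.isNoetherianRing_fiber t
  let e := Algebra.IsPushout.cancelBaseChange R t.ResidueField T (t.Fiber T) NT
  constructor
  · intro hinj Q _ _ hQ
    obtain ⟨hpr, w, hw⟩ := (isAssociatedPrime_iff (M := (t.Fiber T) ⊗[T] NT)).1 hQ
    haveI := hpr
    by_cases hmem : ∀ i, c i ∈ Q
    · refine absurd ?_ hpr.ne_top
      have hw0 : e w = 0 := hinj ((fibre_ker_iff c t w).2 (fun i => by
        have h1 : algebraMap T (t.Fiber T) (c i) ∈ FlatCA.fiberIdeal t Q := Ideal.mem_map_of_mem _ (hmem i)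
        rw [hw, Submodule.mem_colon_singleton, Submodule.mem_bot] at h1
        exact h1) |>.trans (map_zero _).symm)
      rw [hw, e.map_eq_zero_iff.1 hw0, Ideal.eq_top_iff_one, Submodule.mem_colon_singleton, smul_zero]
      exact zero_mem _
    · push Not at hmem
      obtain ⟨i, hi⟩ := hmem
      have hQc : (⟨Q, inferInstance⟩ : PrimeSpectrum T) ∈ Set.range (PrimeSpectrum.comap (algebraMap T C)) := by
        rw [hc]
        exact fun h => hi (h ⟨i, rfl⟩)
      obtain ⟨Q', hQ'⟩ := hQc
      exact ⟨Q'.asIdeal, Q'.isPrime, congrArg PrimeSpectrum.asIdeal hQ'⟩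
  · intro hcov
    rw [injective_iff_map_eq_zero]
    intro z hz
    obtain ⟨w, rfl⟩ := e.surjective z
    by_contra hne
    have hw0 : w ≠ 0 := fun h => hne (by rw [h, map_zero])
    obtain ⟨P, hP, hle⟩ := exists_le_isAssociatedPrime_of_isNoetherianRing (t.Fiber T) w hw0
    haveI : P.IsPrime := hP.isPrime
    haveI : (P.comap (algebraMap T (t.Fiber T))).IsPrime := Ideal.IsPrime.comap _
    haveI : (P.comap (algebraMap T (t.Fiber T))).LiesOver t := ⟨(RGLib.comap_comap_fiber t P).symm⟩
    obtain ⟨Q', hQ', hQ'c⟩ := hcov (P.comap (algebraMap T (t.Fiber T))) (by rw [RGLib.fiberIdeal_comap]; exact hP)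
    have hQc : (⟨P.comap (algebraMap T (t.Fiber T)), inferInstance⟩ : PrimeSpectrum T) ∈
        Set.range (PrimeSpectrum.comap (algebraMap T C)) := ⟨⟨Q', hQ'⟩, PrimeSpectrum.ext hQ'c⟩
    rw [hc] at hQc
    refine hQc ?_
    rintro _ ⟨i, rfl⟩
    exact hle (by
      rw [Submodule.mem_colon_singleton, Submodule.mem_bot]
      exact (fibre_ker_iff c t w).1 hz i)

/-- Covering spreads from the generalisations of a point to a neighbourhood. -/
theorem exists_away_covers [Algebra.FinitePresentation R T] [Module.FinitePresentation T NT] [Algebra.Etale T C]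
    (p : Ideal R) [p.IsPrime]
    (h : ∀ (t : Ideal R) [t.IsPrime], t ≤ p → ∀ (Q : Ideal T) [Q.IsPrime] [Q.LiesOver t],
      FlatCA.fiberIdeal t Q ∈ associatedPrimes (t.Fiber T) (FlatCA.fiberMod t T NT) →
      ∃ Q' : Ideal C, Q'.IsPrime ∧ Q'.comap (algebraMap T C) = Q) :
    ∃ f ∉ p, ∀ (t : Ideal R) [t.IsPrime], f ∉ t → ∀ (Q : Ideal T) [Q.IsPrime] [Q.LiesOver t],
      FlatCA.fiberIdeal t Q ∈ associatedPrimes (t.Fiber T) (FlatCA.fiberMod t T NT) →
      ∃ Q' : Ideal C, Q'.IsPrime ∧ Q'.comap (algebraMap T C) = Q := by
  classical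
  have hop : IsOpen (Set.range (PrimeSpectrum.comap (algebraMap T C))) := by
    rw [← Set.image_univ]
    exact PrimeSpectrum.isOpenMap_comap_of_hasGoingDown_of_finitePresentation _ isOpen_univ
  obtain ⟨s, hs⟩ := PrimeSpectrum.isCompact_isOpen_iff.1
    ⟨isCompact_range (PrimeSpectrum.continuous_comap (algebraMap T C)), hop⟩
  let c : {x // x ∈ s} → T := fun i => i.1
  have hc : Set.range (PrimeSpectrum.comap (algebraMap T C)) = (PrimeSpectrum.zeroLocus (Set.range c))ᶜ := by
    rw [← hs]
    congr 2
    exact Subtype.range_coe.symm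
  obtain ⟨f, hf, hfi⟩ := SpreadInj.exists_away (famSmul (NT := NT) c) p fun t _ htp =>
    (covered_iff_injective (C := C) c hc t).2 (h t htp)
  exact ⟨f, hf, fun t _ hft Q _ _ hQ => (covered_iff_injective (C := C) c hc t).1 (hfi t hft) Q hQ⟩

end Groth.Agent.FlatPure
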