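import Groth.Agent.S1201
import Groth.Agent.RGLib.Covering
import Groth.Agent.RGLib.GeomBasis
import Groth.Agent.DevEtale.Local
import Groth.Agent.FlatEtOpen.ML

/-! A finite type module all of whose associated points of fibres are covered by a projective neighbourhood. -/

set_option autoImplicit false
set_option backward.isDefEq.respectTransparency false
set_option backward.isDefEq.respectTransparency.types false
attribute [-instance] CategoryTheory.catToReflQuiver

universe u

open TensorProduct

namespace Groth.Agent.FlatPure

attribute [local instance] Algebra.TensorProduct.rightAlgebra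

variable {A B C : Type u} [CommRing A] [CommRing B] [CommRing C] [Algebra A B] [Algebra B C] [Algebra A C]
  [IsScalarTower A B C] [Algebra.FiniteType A B] [Module.Flat B C]

/-- Every associated point of a fibre of `N` is in the image of `C`. -/
def Covers (A B C : Type u) [CommRing A] [CommRing B] [CommRing C] [Algebra A B] [Algebra B C]
    (N : Type u) [AddCommGroup N] [Module B N] : Prop :=
  ∀ (t : Ideal A) (Q : Ideal B) [t.IsPrime] [Q.IsPrime] [Q.LiesOver t],
    FlatCA.fiberIdeal t Q ∈ associatedPrimes (t.Fiber B) (FlatCA.fiberMod t B N) →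
      ∃ Q' : Ideal C, Q'.IsPrime ∧ Q'.comap (algebraMap B C) = Q

theorem flat_of_covering (N : Type u) [AddCommGroup N] [Module B N] [Module A N] [IsScalarTower A B N]
    [Module.Finite B N] [Module.Flat A (C ⊗[B] N)] (h : Covers A B C N) : Module.Flat A N := by
  refine Module.flat_of_isLocalized_maximal (R := A) (S := B) (M := N) (fun P _ => LocalizedModule P.primeCompl N)
    (fun P _ => LocalizedModule.mkLinearMap P.primeCompl N) fun P _ => ?_
  let p := P.comap (algebraMap A B)
  haveI : P.LiesOver p := ⟨rfl⟩
  refine (S1201.result (R := A) N p P).2 fun Q hQ _ hQp hass => ?_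
  haveI := hQp
  obtain ⟨Q', hQ', hQc⟩ := h p Q hass
  haveI := hQ'
  haveI : Q'.LiesOver Q := ⟨hQc.symm⟩
  haveI : IsScalarTower A C (C ⊗[B] N) := inferInstance
  refine (DevEtale.flatAt_iff_of_flat A (TensorProduct.mk B C N 1) (TensorProduct.isBaseChange B N C) Q Q').2 ?_
  exact RGLib.flat_localizedModule (R := A) Q'.primeCompl

theorem ui_of_covering (N : Type u) [AddCommGroup N] [Module B N] [Module A N] [IsScalarTower A B N]
    [Module.Finite B N] [Module.Flat A N] (h : Covers A B C N) :
    CAlgX.UniversallyInjective A ((TensorProduct.mk B C N 1).restrictScalars A) := by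
  intro Q _ _
  rw [← LinearMap.lTensor_inj_iff_rTensor_inj]
  refine RGLib.univInj_mk_of_covering N (fun t _ P hP _ => ?_) Q
  haveI : P.IsPrime := IsAssociatedPrime.isPrime hP
  haveI : (P.comap (algebraMap B (t.Fiber B))).IsPrime := Ideal.IsPrime.comap _
  haveI : (P.comap (algebraMap B (t.Fiber B))).LiesOver t := ⟨(RGLib.comap_comap_fiber t P).symm⟩
  refine h t _ ?_
  rwa [RGLib.fiberIdeal_comap t P]

/-- Projectivity descends from a neighbourhood covering the associated points of all fibres. -/
theorem projective_of_covering (N : Type u) [AddCommGroup N] [Module B N] [Module A N] [IsScalarTower A B N]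
    [Module.Finite B N] [Module.Projective A (C ⊗[B] N)] (h : Covers A B C N) : Module.Projective A N := by
  haveI : Module.Flat A N := flat_of_covering N h
  have hML : CAlg.IsMittagLeffler A N :=
    CAlgUI.ml_of_ui ((TensorProduct.mk B C N 1).restrictScalars A) (ui_of_covering N h) CAlgUI.ml_of_projective
  exact CAlgUI.projective_of_flat_ml_countablyGenerated hML (FlatEtOpen.countablyGenerated_of_finiteType B N)

end Groth.Agent.FlatPure
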