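import Groth.Agent.FlatPure.AssLift
import Groth.Agent.S6919
import Groth.Agent.DevExist.Nhd

/-! Purity descends along a base change which is flat at the point. -/

set_option autoImplicit false
set_option backward.isDefEq.respectTransparency false
set_option backward.isDefEq.respectTransparency.types false
attribute [-instance] CategoryTheory.catToReflQuiver

universe u

open TensorProduct

namespace Groth.Agent.FlatPure

/-- Going down for a base change which is flat at a prime. -/
theorem exists_le_over {A A₁ A' A'' : Type u} [CommRing A] [CommRing A₁] [CommRing A'] [CommRing A'']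
    [Algebra A A₁] [Algebra A A'] [Algebra A₁ A''] [Algebra A' A''] [Algebra A A''] [IsScalarTower A A₁ A'']
    [IsScalarTower A A' A''] [Algebra.IsPushout A A' A₁ A''] (p₁ : Ideal A₁) [p₁.IsPrime]
    [Module.Flat A (Localization.AtPrime p₁)] (t' t : Ideal A') [t'.IsPrime] [t.IsPrime] (hle : t' ≤ t)
    (s : Ideal A'') [s.IsPrime] [hst : s.LiesOver t] (hsp : s.comap (algebraMap A₁ A'') ≤ p₁) :
    ∃ s' : Ideal A'', s'.IsPrime ∧ s' ≤ s ∧ s'.LiesOver t' := by
  let L := Localization.AtPrime p₁
  let D := A'' ⊗[A₁] L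
  letI : Algebra L D := Algebra.TensorProduct.rightAlgebra
  haveI : IsScalarTower A₁ L D := Algebra.TensorProduct.right_isScalarTower
  haveI : Algebra.IsPushout A₁ A'' L D := TensorProduct.isPushout (R := A₁) (S := A'') (T := L)
  haveI : Algebra.IsPushout A₁ L A'' D := Algebra.IsPushout.symm inferInstance
  haveI : IsScalarTower A' A'' D := inferInstance
  haveI : IsScalarTower A A' D := IsScalarTower.to₁₂₄ A A' A'' D
  haveI : IsScalarTower A A₁ D := IsScalarTower.to₁₂₄ A A₁ A'' D
  haveI : IsScalarTower A L D := IsScalarTower.to₁₃₄ A A₁ L D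
  haveI : Algebra.IsPushout A A₁ A' A'' := Algebra.IsPushout.symm inferInstance
  haveI : Algebra.IsPushout A L A' D :=
    (Algebra.IsPushout.comp_iff (R := A) (S := A₁) (R' := A') (S' := A'') (T := L) (T' := D)).2 inferInstance
  haveI : Algebra.IsPushout A A' L D := Algebra.IsPushout.symm inferInstance
  haveI : Module.Flat A' D :=
    Module.Flat.of_linearEquiv (Algebra.IsPushout.equiv A A' L D).symm.toLinearEquiv
  haveI : IsLocalization (Algebra.algebraMapSubmonoid A'' p₁.primeCompl) D :=
    (Algebra.isLocalization_iff_isPushout (R := A₁) (T := A'') p₁.primeCompl L).2 inferInstance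
  have hdisj : Disjoint (Algebra.algebraMapSubmonoid A'' p₁.primeCompl : Set A'') (s : Set A'') := by
    rw [Set.disjoint_left]
    rintro _ ⟨x, hx, rfl⟩ hxs
    exact hx (hsp hxs)
  have hsD : (s.map (algebraMap A'' D)).IsPrime :=
    IsLocalization.isPrime_of_isPrime_disjoint (Algebra.algebraMapSubmonoid A'' p₁.primeCompl) D s ‹_› hdisj
  have hsc : (s.map (algebraMap A'' D)).comap (algebraMap A'' D) = s :=
    IsLocalization.under_map_of_isPrime_disjoint (Algebra.algebraMapSubmonoid A'' p₁.primeCompl) D ‹_› hdisj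
  haveI := hsD
  haveI : (s.map (algebraMap A'' D)).LiesOver t := ⟨by
    show t = (s.map (algebraMap A'' D)).comap (algebraMap A' D)
    rw [IsScalarTower.algebraMap_eq A' A'' D, ← Ideal.comap_comap, hsc]
    exact hst.over⟩
  obtain ⟨Q, hQ, hQp, hQt⟩ := Ideal.exists_ideal_le_liesOver_of_le (R := A') (S := D) (s.map (algebraMap A'' D)) hle
  haveI := hQp
  refine ⟨Q.comap (algebraMap A'' D), Ideal.IsPrime.comap _, hsc ▸ Ideal.comap_mono hQ, ⟨?_⟩⟩
  show t' = (Q.comap (algebraMap A'' D)).comap (algebraMap A' A'')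
  rw [Ideal.comap_comap, ← IsScalarTower.algebraMap_eq]
  exact hQt.over

variable {A B N A₁ B₁ N₁ : Type u} [CommRing A] [CommRing B] [Algebra A B] [Algebra.FiniteType A B]
  [AddCommGroup N] [Module B N] [CommRing A₁] [CommRing B₁] [Algebra A A₁] [Algebra B B₁] [Algebra A₁ B₁]
  [Algebra A B₁] [IsScalarTower A B B₁] [IsScalarTower A A₁ B₁] [Algebra.IsPushout A B A₁ B₁]
  [AddCommGroup N₁] [Module B₁ N₁] [Module B N₁] [IsScalarTower B B₁ N₁]

set_option maxHeartbeats 1600000 in
/-- An impurity above `p` gives one above a point over `p` at which the base change is flat. -/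
theorem exists_impurity_lift (g : N →ₗ[B] N₁) (hg : IsBaseChange B₁ g) (p : Ideal A) [p.IsPrime]
    (p₁ : Ideal A₁) [p₁.IsPrime] [Module.Flat A (Localization.AtPrime p₁)]
    {A' B' N' : Type u} [CommRing A'] [CommRing B'] [Algebra A A'] [Algebra B B']
    [Algebra A' B'] [Algebra A B'] [IsScalarTower A B B'] [IsScalarTower A A' B']
    [AddCommGroup N'] [Module B' N'] [Module B N'] [IsScalarTower B B' N'] [Module A' N']
    [IsScalarTower A' B' N'] (f : N →ₗ[B] N') (t' t : Ideal A') [t'.IsPrime] [t.IsPrime]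
    (P : Ideal B') [P.IsPrime] (h : FlatCA.IsImpurity A B N p A' B' N' f t' t P)
    (A'' : Type u) [CommRing A''] [Algebra A₁ A''] [Algebra A' A''] [Algebra A A''] [IsScalarTower A A₁ A'']
    [IsScalarTower A A' A''] [Algebra.IsPushout A A' A₁ A'']
    (s : Ideal A'') [s.IsPrime] [s.LiesOver t] [hsp : s.LiesOver p₁] :
    ∃ (B'' N'' : Type u) (_ : CommRing B'') (_ : Algebra B₁ B'') (_ : Algebra A'' B'') (_ : Algebra A₁ B'')
      (_ : IsScalarTower A₁ B₁ B'') (_ : IsScalarTower A₁ A'' B'') (_ : AddCommGroup N'') (_ : Module B'' N'')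
      (_ : Module B₁ N'') (_ : IsScalarTower B₁ B'' N'') (_ : Module A'' N'') (_ : IsScalarTower A'' B'' N'')
      (f'' : N₁ →ₗ[B₁] N'') (s' : Ideal A'') (_ : s'.IsPrime) (P'' : Ideal B'') (_ : P''.IsPrime),
      FlatCA.IsImpurity A₁ B₁ N₁ p₁ A'' B'' N'' f'' s' s P'' := by
  obtain ⟨hpo, hbc, hle, htp, hPt', hass, hno⟩ := h
  haveI := hpo; haveI := htp; haveI := hPt'
  obtain ⟨s', hs', hs's, hs't'⟩ := exists_le_over (A := A) (A₁ := A₁) p₁ t' t hle s hsp.over.ge
  haveI := hs'; haveI := hs't'
  let B'' := A'' ⊗[A₁] B₁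
  letI : Algebra B₁ B'' := Algebra.TensorProduct.rightAlgebra
  haveI : IsScalarTower A₁ B₁ B'' := Algebra.TensorProduct.right_isScalarTower
  haveI : Algebra.IsPushout A₁ A'' B₁ B'' := TensorProduct.isPushout (R := A₁) (S := A'') (T := B₁)
  haveI : Algebra.IsPushout A₁ B₁ A'' B'' := Algebra.IsPushout.symm inferInstance
  haveI : IsScalarTower A A'' B'' := inferInstance
  letI : Algebra B B'' := ((algebraMap B₁ B'').comp (algebraMap B B₁)).toAlgebra
  haveI : IsScalarTower B B₁ B'' := IsScalarTower.of_algebraMap_eq' rfl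
  haveI : IsScalarTower A A₁ B'' := IsScalarTower.to₁₂₄ A A₁ A'' B''
  haveI : IsScalarTower A B₁ B'' := IsScalarTower.to₁₃₄ A A₁ B₁ B''
  haveI : IsScalarTower A B B'' := IsScalarTower.to₁₂₄ A B B₁ B''
  haveI : Algebra.IsPushout A A₁ B B₁ := Algebra.IsPushout.symm inferInstance
  haveI h1 : Algebra.IsPushout A A'' B B'' :=
    (Algebra.IsPushout.comp_iff (R := A) (S := A₁) (R' := B) (S' := B₁) (T := A'') (T' := B'')).2 inferInstance
  haveI : Algebra.IsPushout A A' B B' := Algebra.IsPushout.symm inferInstance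
  haveI : IsScalarTower A' A'' B'' := inferInstance
  haveI : IsScalarTower A A' B'' := IsScalarTower.to₁₂₄ A A' A'' B''
  let φ : B' →ₐ[A] B'' := Algebra.pushoutDesc B' (IsScalarTower.toAlgHom A A' B'') (IsScalarTower.toAlgHom A B B'')
    fun _ _ => mul_comm _ _
  letI : Algebra B' B'' := φ.toRingHom.toAlgebra
  haveI : IsScalarTower A' B' B'' := IsScalarTower.of_algebraMap_eq fun a => by
    show algebraMap A' B'' a = φ (algebraMap A' B' a)
    rw [Algebra.pushoutDesc_left]
    rfl
  haveI : IsScalarTower B B' B'' := IsScalarTower.of_algebraMap_eq fun b => by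
    show algebraMap B B'' b = φ (algebraMap B B' b)
    rw [Algebra.pushoutDesc_right]
    rfl
  haveI : IsScalarTower A B' B'' := IsScalarTower.to₁₃₄ A A' B' B''
  haveI : Algebra.IsPushout A' A'' B' B'' :=
    (Algebra.IsPushout.comp_iff (R := A) (S := A') (R' := B) (S' := B') (T := A'') (T' := B'')).1 h1
  haveI : Algebra.FiniteType A' B' :=
    Algebra.FiniteType.equiv (inferInstanceAs (Algebra.FiniteType A' (A' ⊗[A] B))) (Algebra.IsPushout.equiv A A' B B')
  let N'' := B'' ⊗[B₁] N₁
  let f'' : N₁ →ₗ[B₁] N'' := TensorProduct.mk B₁ B'' N₁ 1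
  have hf'' : IsBaseChange B'' f'' := TensorProduct.isBaseChange B₁ N₁ B''
  letI : Module B N'' := Module.compHom N'' (algebraMap B B₁)
  haveI : IsScalarTower B B₁ N'' := IsScalarTower.of_algebraMap_smul fun _ _ => rfl
  haveI : IsScalarTower B B'' N'' := IsScalarTower.to₁₃₄ B B₁ B'' N''
  letI : Module B' N'' := Module.compHom N'' (algebraMap B' B'')
  haveI : IsScalarTower B' B'' N'' := IsScalarTower.of_algebraMap_smul fun _ _ => rfl
  haveI : IsScalarTower B B' N'' := IsScalarTower.to₁₂₄ B B' B'' N''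
  let gg : N →ₗ[B] N'' := (f''.restrictScalars B).comp g
  have hgg : IsBaseChange B'' gg := hg.comp hf''
  let a : N' →ₗ[B'] N'' := hbc.lift gg
  have ha : IsBaseChange B'' a := IsBaseChange.of_comp hbc (by
    rw [show ((a.restrictScalars B) ∘ₗ f) = gg from LinearMap.ext fun n => hbc.lift_eq gg n]; exact hgg)
  obtain ⟨P'', hP'', hP''s, hP''P, hass''⟩ := (fibre_assoc (A := A') (A' := A'') a ha t' s').1 P hass
  haveI := hP''
  refine ⟨B'', N'', inferInstance, inferInstance, inferInstance, inferInstance, inferInstance, inferInstance,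
    inferInstance, inferInstance, inferInstance, inferInstance, inferInstance, inferInstance, f'', s', hs', P'',
    hP'', inferInstance, hf'', hs's, hsp, hP''s, hass'', fun Q hQ hPQ hQs => ?_⟩
  haveI : (Q.comap (algebraMap B' B'')).IsPrime := Ideal.IsPrime.comap _
  refine hno (Q.comap (algebraMap B' B'')) ?_ ⟨?_⟩
  · rw [hP''P.over]
    exact Ideal.comap_mono hPQ
  · show t = (Q.comap (algebraMap B' B'')).comap (algebraMap A' B')
    rw [Ideal.comap_comap, ← IsScalarTower.algebraMap_eq, IsScalarTower.algebraMap_eq A' A'' B'',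
      ← Ideal.comap_comap]
    show t = (Q.under A'').comap (algebraMap A' A'')
    rw [← hQs.over]
    exact Ideal.LiesOver.over

end Groth.Agent.FlatPure
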