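import Groth.Agent.FlatPure.Closed
import Groth.Agent.FlatDevBC.Fiber
import Groth.Agent.QCoh.AnnIdeal
import Groth.Agent.S6919
import Mathlib.RingTheory.ZariskisMainTheorem
import Mathlib.RingTheory.Etale.QuasiFinite

/-! A pure module with finite fibres has finite support. -/

set_option autoImplicit false
set_option backward.isDefEq.respectTransparency false
set_option backward.isDefEq.respectTransparency.types false
attribute [-instance] CategoryTheory.catToReflQuiver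

universe u

open TensorProduct

namespace Groth.Agent.FlatPure

attribute [local instance] Algebra.TensorProduct.rightAlgebra

/-- Every point of the support is associated in a zero-dimensional fibre. -/
theorem fibre_assoc_of_quasiFinite {A B N : Type u} [CommRing A] [CommRing B] [Algebra A B] [Algebra.QuasiFinite A B]
    [AddCommGroup N] [Module B N] [Module A N] [IsScalarTower A B N] [Module.Finite B N] (t : Ideal A) [t.IsPrime]
    (P : Ideal B) [P.IsPrime] [hP : P.LiesOver t] (hs : Module.annihilator B N ≤ P) :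
    FlatCA.fiberIdeal t P ∈ associatedPrimes (t.Fiber B) (FlatCA.fiberMod t B N) := by
  haveI : Module.Finite (t.Fiber B) (FlatCA.fiberMod t B N) :=
    inferInstanceAs (Module.Finite (t.Fiber B) ((t.Fiber B) ⊗[B] N))
  let x := PrimeSpectrum.primesOverOrderIsoFiber A B t ⟨P, ‹P.IsPrime›, hP⟩
  have hx : x.asIdeal = FlatCA.fiberIdeal t P := FlatDevLoc.primesOver_fiberIdeal t P hP
  have hmem : x ∈ Module.support (t.Fiber B) (FlatCA.fiberMod t B N) :=
    (FlatDevBC.mem_support_fiber_iff t x).2 (by rw [OrderIso.symm_apply_apply]; exact hs)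
  rw [Module.mem_support_iff_of_finite] at hmem
  rw [← hx]
  refine Module.associatedPrimes.minimalPrimes_annihilator_subset_associatedPrimes _ _
    ⟨⟨x.isPrime, hmem⟩, fun Q hQ hQx => ?_⟩
  haveI := hQ.1
  exact ((Ideal.IsPrime.isMaximal' hQ.1).eq_of_le x.isPrime.ne_top hQx).ge

theorem exists_integral_cover (A C : Type u) [CommRing A] [CommRing C] [Algebra A C] [Algebra.FiniteType A C]
    [Algebra.QuasiFinite A C] :
    ∃ (C₀ : Subalgebra A C), Module.Finite A C₀ ∧ (∀ Q : Ideal C, Q.IsPrime → ∃ r : C₀, (r : C) ∉ Q ∧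
      ∀ x : C, ∃ m : ℕ, (r : C) ^ m * x ∈ C₀) := by
  classical
  obtain ⟨s, hs⟩ := Algebra.FiniteType.out (R := A) (A := C)
  have hz : ∀ Q : PrimeSpectrum C, ∃ r ∉ Q.asIdeal, IsIntegral A r ∧ ∀ x, ∃ m, IsIntegral A (r ^ m * x) := fun Q =>
    Algebra.zariskisMainProperty_iff.1 (Algebra.ZariskisMainProperty.of_finiteType (R := A) Q.asIdeal)
  choose r hrQ hr m hm using hz
  obtain ⟨F, hF⟩ := CompactSpace.elim_nhds_subcover (fun Q : PrimeSpectrum C =>
    (PrimeSpectrum.basicOpen (r Q) : Set (PrimeSpectrum C)))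
    fun Q => (PrimeSpectrum.basicOpen (r Q)).isOpen.mem_nhds (hrQ Q)
  let G : Set C := (r '' (F : Set _)) ∪ ⋃ Q ∈ F, (fun x => r Q ^ m Q x * x) '' (s : Set C)
  have hG : G.Finite := (F.finite_toSet.image _).union (F.finite_toSet.biUnion fun Q _ => s.finite_toSet.image _)
  refine ⟨Algebra.adjoin A G, ⟨(Submodule.fg_top _).2 (fg_adjoin_of_finite hG ?_)⟩, fun Q hQ => ?_⟩
  · intro x hx
    rcases hx with ⟨Q, -, rfl⟩ | hx
    · exact hr Q
    · obtain ⟨Q, -, y, -, rfl⟩ := Set.mem_iUnion₂.1 hx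
      exact hm Q y
  · have hmem : (⟨Q, hQ⟩ : PrimeSpectrum C) ∈ (⊤ : Set (PrimeSpectrum C)) := trivial
    rw [← hF] at hmem
    obtain ⟨P, hP, hQP⟩ := Set.mem_iUnion₂.1 hmem
    refine ⟨⟨r P, Algebra.subset_adjoin (Or.inl ⟨P, hP, rfl⟩)⟩, hQP, fun x => ?_⟩
    have hr₀ : r P ∈ Algebra.adjoin A G := Algebra.subset_adjoin (Or.inl ⟨P, hP, rfl⟩)
    have hx : x ∈ Algebra.adjoin A (s : Set C) := hs ▸ trivial
    induction hx using Algebra.adjoin_induction with
    | mem y hy => exact ⟨m P y, Algebra.subset_adjoin (Or.inr (Set.mem_iUnion₂.2 ⟨P, hP, y, hy, rfl⟩))⟩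
    | algebraMap a => exact ⟨0, by simp⟩
    | add y z _ _ hy hz =>
      obtain ⟨i, hi⟩ := hy
      obtain ⟨j, hj⟩ := hz
      refine ⟨i + j, ?_⟩
      rw [show r P ^ (i + j) * (y + z) = r P ^ j * (r P ^ i * y) + r P ^ i * (r P ^ j * z) by ring]
      exact add_mem (mul_mem (pow_mem hr₀ _) hi) (mul_mem (pow_mem hr₀ _) hj)
    | mul y z _ _ hy hz =>
      obtain ⟨i, hi⟩ := hy
      obtain ⟨j, hj⟩ := hz
      refine ⟨i + j, ?_⟩
      rw [show r P ^ (i + j) * (y * z) = (r P ^ i * y) * (r P ^ j * z) by ring]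
      exact mul_mem hi hj

set_option maxHeartbeats 1600000 in
theorem finite_of_isPure {A C N : Type u} [CommRing A] [CommRing C] [Algebra A C] [Algebra.FiniteType A C]
    [Algebra.QuasiFinite A C] [AddCommGroup N] [Module C N] [Module.Finite C N]
    (hN : Module.annihilator C N = ⊥) (hpure : FlatCA.IsPure A C N) : Module.Finite A C := by
  obtain ⟨C₀, hfin, hcov⟩ := exists_integral_cover A C
  haveI := hfin
  choose r hrQ hr using fun Q : PrimeSpectrum C => hcov Q.asIdeal Q.isPrime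
  suffices htop : Ideal.span (Set.range r) = ⊤ by
    have hsurj : ∀ x : C, x ∈ C₀ := fun x => by
      let I : Ideal C₀ :=
        { carrier := {a | (a : C) * x ∈ C₀}
          add_mem' := fun {a b} ha hb => by
            show ((a + b : C₀) : C) * x ∈ C₀
            rw [Subalgebra.coe_add, add_mul]
            exact add_mem ha hb
          zero_mem' := by
            show ((0 : C₀) : C) * x ∈ C₀
            rw [Subalgebra.coe_zero, zero_mul]
            exact zero_mem _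
          smul_mem' := fun c a ha => by
            show ((c * a : C₀) : C) * x ∈ C₀
            rw [Subalgebra.coe_mul, mul_assoc]
            exact mul_mem c.2 ha }
      have hrad : I.radical = ⊤ := top_le_iff.1 (htop ▸ Ideal.span_le.2 (by
        rintro _ ⟨Q, rfl⟩
        obtain ⟨k, hk⟩ := hr Q x
        exact ⟨k, hk⟩))
      have h1 : (1 : C₀) ∈ I := by
        rw [Ideal.radical_eq_top.1 hrad]
        trivial
      simpa using (show ((1 : C₀) : C) * x ∈ C₀ from h1)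
    exact Module.Finite.of_surjective C₀.val.toLinearMap fun x => ⟨⟨x, hsurj x⟩, rfl⟩
  by_contra htop
  obtain ⟨z, hz, hzr⟩ := Ideal.exists_le_maximal _ htop
  haveI : z.IsPrime := hz.isPrime
  let p := z.comap (algebraMap A C₀)
  haveI : p.IsPrime := Ideal.IsPrime.comap _
  haveI : z.LiesOver p := ⟨rfl⟩
  obtain ⟨u, hu, huz⟩ := Ideal.exists_minimalPrimes_le (I := (⊥ : Ideal C₀)) (J := z) bot_le
  haveI := hu.1.1
  obtain ⟨Q₀, hQ₀, hQ₀u⟩ :=
    Ideal.exists_comap_eq_of_mem_minimalPrimes_of_injective (f := algebraMap C₀ C) Subtype.val_injective u hu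
  haveI := hQ₀
  obtain ⟨A₁, _, _, heA, p₁, _, hp₁, e, he, z₁, _, hz₁p, hz₁z, hez, hκ, -, huniq⟩ :=
    Algebra.exists_etale_isIdempotentElem_forall_liesOver_eq (R := A) (S := C₀) p z
  haveI := heA; haveI := hz₁p
  haveI hT : Algebra.IsPushout A A₁ C₀ (A₁ ⊗[A] C₀) := TensorProduct.isPushout (R := A) (S := A₁) (T := C₀)
  haveI : Algebra.IsPushout A C₀ A₁ (A₁ ⊗[A] C₀) := Algebra.IsPushout.symm inferInstance
  obtain ⟨C₁, N₁, _, _, _, _, _, _, _, _, _, _, _, _, g, hpo', hpo, hg⟩ := exists_base_model A A₁ C N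
  haveI := hpo; haveI := hpo'
  let ψ : (A₁ ⊗[A] C₀) →ₐ[A] C₁ := Algebra.pushoutDesc (A₁ ⊗[A] C₀) (IsScalarTower.toAlgHom A A₁ C₁)
    ((IsScalarTower.toAlgHom A C C₁).comp C₀.val) fun _ _ => mul_comm _ _
  letI : Algebra (A₁ ⊗[A] C₀) C₁ := ψ.toRingHom.toAlgebra
  haveI : IsScalarTower C₀ C C₁ := inferInstance
  haveI : IsScalarTower A C₀ C₁ := IsScalarTower.to₁₂₄ A C₀ C C₁
  haveI : IsScalarTower A₁ (A₁ ⊗[A] C₀) C₁ := IsScalarTower.of_algebraMap_eq fun a => by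
    show _ = ψ (algebraMap A₁ (A₁ ⊗[A] C₀) a)
    rw [Algebra.pushoutDesc_left]
    rfl
  haveI : IsScalarTower C₀ (A₁ ⊗[A] C₀) C₁ := IsScalarTower.of_algebraMap_eq fun a => by
    show _ = ψ (algebraMap C₀ (A₁ ⊗[A] C₀) a)
    rw [Algebra.pushoutDesc_right]
    rfl
  haveI : IsScalarTower A (A₁ ⊗[A] C₀) C₁ := IsScalarTower.to₁₃₄ A A₁ (A₁ ⊗[A] C₀) C₁
  haveI : Algebra.IsPushout C₀ C (A₁ ⊗[A] C₀) C₁ :=
    (Algebra.IsPushout.comp_iff (R := A) (S := C₀) (R' := A₁) (S' := A₁ ⊗[A] C₀) (T := C) (T' := C₁)).1 hpo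
  haveI : Algebra.IsPushout C₀ (A₁ ⊗[A] C₀) C C₁ := Algebra.IsPushout.symm inferInstance
  haveI : Algebra.Etale C₀ (A₁ ⊗[A] C₀) :=
    Algebra.Etale.of_equiv (Algebra.IsPushout.equiv A C₀ A₁ (A₁ ⊗[A] C₀))
  haveI : Module.Flat C₀ (A₁ ⊗[A] C₀) := inferInstance
  haveI : z₁.LiesOver z := ⟨hz₁z.symm⟩
  obtain ⟨u₁, hu₁, hu₁p, hu₁u⟩ :=
    Ideal.exists_ideal_le_liesOver_of_le (R := C₀) (S := A₁ ⊗[A] C₀) z₁ (p := u) (q := z) huz
  haveI := hu₁p; haveI := hu₁u
  obtain ⟨Q, hQ, hQu, hQQ₀⟩ := S6919.exists_prime_over (R := C₀) (S := A₁ ⊗[A] C₀) (R' := C) (S' := C₁) u₁ Q₀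
    (hu₁u.over.symm.trans hQ₀u.symm)
  haveI := hQ
  let t₁ := Q.comap (algebraMap A₁ C₁)
  haveI : t₁.IsPrime := Ideal.IsPrime.comap _
  haveI : Q.LiesOver t₁ := ⟨rfl⟩
  have ht₁ : t₁ = u₁.comap (algebraMap A₁ (A₁ ⊗[A] C₀)) := by
    show Q.comap _ = _
    rw [← hQu, Ideal.comap_comap, ← IsScalarTower.algebraMap_eq]
  have hle : t₁ ≤ p₁ := by
    rw [ht₁, hz₁p.over]
    exact Ideal.comap_mono hu₁
  haveI : Algebra.FiniteType A₁ C₁ :=
    Algebra.FiniteType.equiv (inferInstanceAs (Algebra.FiniteType A₁ (A₁ ⊗[A] C))) (Algebra.IsPushout.equiv A A₁ C C₁)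
  haveI : Algebra.QuasiFinite A₁ C₁ :=
    Algebra.QuasiFinite.of_surjective_algHom (Algebra.IsPushout.equiv A A₁ C C₁).toAlgHom
      (Algebra.IsPushout.equiv A A₁ C C₁).surjective
  haveI : Module.Finite C₁ N₁ := Module.Finite.equiv hg.equiv
  have hsupp : Module.annihilator C₁ N₁ ≤ Q := by
    have h := (QCoh.mem_support_baseChange hg ⟨Q, hQ⟩).2 (by
      rw [Module.mem_support_iff_of_finite, hN]
      exact bot_le)
    rwa [Module.mem_support_iff_of_finite] at h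
  refine hpure p A₁ C₁ N₁ g t₁ p₁ Q ⟨heA, hp₁, hκ⟩
    ⟨hpo, hg, hle, hp₁, ⟨rfl⟩, fibre_assoc_of_quasiFinite t₁ Q hsupp, fun R hR hQR hRp => ?_⟩
  let w : Ideal (A₁ ⊗[A] C₀) := R.comap (algebraMap (A₁ ⊗[A] C₀) C₁)
  have hwp : w.LiesOver p₁ := ⟨by
    show p₁ = (R.comap (algebraMap (A₁ ⊗[A] C₀) C₁)).comap (algebraMap A₁ (A₁ ⊗[A] C₀))
    rw [Ideal.comap_comap, ← IsScalarTower.algebraMap_eq]
    exact hRp.over⟩
  have hu₁w : u₁ ≤ w := hQu ▸ Ideal.comap_mono hQR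
  have hew : e ∉ w := fun hmem => by
    have h1 : e * (1 - e) = 0 := by rw [mul_sub, mul_one, he, sub_self]
    have h2 : 1 - e ∈ u₁ := (hu₁p.mem_or_mem (h1 ▸ u₁.zero_mem)).resolve_left fun h => hez (hu₁ h)
    exact (Ideal.IsPrime.comap (algebraMap (A₁ ⊗[A] C₀) C₁) (K := R)).ne_top
      ((Ideal.eq_top_iff_one w).2 ((add_sub_cancel e 1) ▸ w.add_mem hmem (hu₁w h2)))
  have hwz : w = z₁ := huniq w (Ideal.IsPrime.comap _) hwp hew
  let R₀ : Ideal C := R.comap (algebraMap C C₁)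
  haveI : R₀.IsPrime := Ideal.IsPrime.comap _
  refine hrQ ⟨R₀, inferInstance⟩ ?_
  have hmem : r ⟨R₀, inferInstance⟩ ∈ z₁.comap (algebraMap C₀ (A₁ ⊗[A] C₀)) := by
    show r _ ∈ z₁.comap Algebra.TensorProduct.includeRight.toRingHom
    rw [hz₁z]
    exact hzr (Ideal.subset_span ⟨_, rfl⟩)
  rw [← hwz] at hmem
  change algebraMap (A₁ ⊗[A] C₀) C₁ (algebraMap C₀ (A₁ ⊗[A] C₀) (r _)) ∈ R at hmem
  rw [← IsScalarTower.algebraMap_apply] at hmem
  exact hmem

end Groth.Agent.FlatPure
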