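import Groth.Agent.FlatPure.Covering
import Groth.Agent.FlatPure.AssLift
import Groth.Agent.FlatEtNhd.Glue
import Groth.Agent.DevExist.LiftNhd
import Groth.Agent.DevExist.Finish

/-! A pure module flat along a fibre is projective over the local ring of an elementary etale neighbourhood. -/

set_option autoImplicit false
set_option backward.isDefEq.respectTransparency false
set_option backward.isDefEq.respectTransparency.types false
attribute [-instance] CategoryTheory.catToReflQuiver

universe u

open TensorProduct IsLocalRing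

namespace Groth.Agent.FlatPure

set_option maxHeartbeats 1600000 in
theorem covers_of_pure {R S R' A T SA C : Type u} [CommRing R] [CommRing S] [CommRing R'] [CommRing A] [CommRing T]
    [CommRing SA] [CommRing C] [Algebra R S] [Algebra R R'] [Algebra R' A] [Algebra R' T] [Algebra S T] [Algebra R T]
    [IsScalarTower R R' T] [IsScalarTower R S T] [Algebra.IsPushout R R' S T] [Algebra.FiniteType R' T]
    [Algebra T SA] [Algebra A SA] [Algebra R' SA] [IsScalarTower R' A SA] [IsScalarTower R' T SA]
    [Algebra.IsPushout R' A T SA] [Algebra S SA] [IsScalarTower S T SA] [Algebra SA C] [Algebra S C]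
    [IsScalarTower S SA C] [Algebra A C] [IsScalarTower A SA C] [Algebra.HasGoingDown SA C]
    (p : Ideal R) [p.IsPrime] (p' : Ideal R') [p'.IsPrime] (hR : FlatCA.IsEtaleNhd R R' p p')
    [IsLocalization.AtPrime A p'] [IsLocalRing A]
    {N NT NA : Type u} [AddCommGroup N] [Module S N] [AddCommGroup NT] [Module T NT] [Module S NT]
    [IsScalarTower S T NT] [Module R' NT] [IsScalarTower R' T NT]
    [AddCommGroup NA] [Module SA NA] [Module T NA] [IsScalarTower T SA NA]
    (g : N →ₗ[S] NT) (hg : IsBaseChange T g) (a : NT →ₗ[T] NA) (ha : IsBaseChange SA a)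
    (hpure : FlatCA.IsPureAlong R S N p)
    (hlift : ∀ q : Ideal S, q.IsPrime → q.LiesOver p → ∃ x : Ideal C, x.IsPrime ∧
      x.comap (algebraMap S C) = q ∧ x.LiesOver (maximalIdeal A)) :
    Covers A SA C NA := by
  obtain ⟨heR, hp', hκ⟩ := id hR
  haveI := heR; haveI := hp'
  haveI : Algebra.IsPushout R' T A SA := Algebra.IsPushout.symm inferInstance
  haveI : IsLocalization (Algebra.algebraMapSubmonoid T p'.primeCompl) SA :=
    (Algebra.isLocalization_iff_isPushout (R := R') (T := T) p'.primeCompl A).2 inferInstance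
  intro t Q _ _ hQt hass
  let t₀ : Ideal R' := t.comap (algebraMap R' A)
  haveI : t₀.IsPrime := Ideal.IsPrime.comap _
  haveI : t.LiesOver t₀ := ⟨rfl⟩
  obtain ⟨hQ₀, hass₀⟩ := (fibre_assoc (A := R') (A' := A) (B := T) (B' := SA) a ha t₀ t).2 Q hass
  have ht₀ : t₀ ≤ p' := fun r hr => by
    by_contra hrp
    exact (‹t.IsPrime›).ne_top (Ideal.eq_top_of_isUnit_mem _ hr (IsLocalization.map_units (M := p'.primeCompl) A ⟨r, hrp⟩))
  let Q₀ : Ideal T := Q.comap (algebraMap T SA)
  haveI : Q₀.IsPrime := Ideal.IsPrime.comap _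
  obtain ⟨P', hP', hQP, hPp⟩ : ∃ P' : Ideal T, ∃ _ : P'.IsPrime, Q₀ ≤ P' ∧ P'.LiesOver p' := by
    by_contra hno
    push Not at hno
    exact hpure R' T NT g t₀ p' Q₀ hR
      ⟨Algebra.IsPushout.symm inferInstance, hg, ht₀, hp', hQ₀, hass₀,
        fun P hP hle hover => hno P hP hle hover⟩
  let q : Ideal S := P'.comap (algebraMap S T)
  haveI : q.IsPrime := Ideal.IsPrime.comap _
  have hqp : q.LiesOver p := ⟨by
    show p = (P'.comap (algebraMap S T)).comap (algebraMap R S)
    rw [Ideal.comap_comap, ← IsScalarTower.algebraMap_eq, IsScalarTower.algebraMap_eq R R' T,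
      ← Ideal.comap_comap]
    show p = (P'.under R').comap (algebraMap R R')
    rw [← hPp.over]
    exact hp'.over⟩
  obtain ⟨x, hx, hxq, hxm⟩ := hlift q inferInstance hqp
  haveI := hx
  let y : Ideal SA := x.comap (algebraMap SA C)
  haveI : y.IsPrime := Ideal.IsPrime.comap _
  let y₀ : Ideal T := y.comap (algebraMap T SA)
  haveI : y₀.IsPrime := Ideal.IsPrime.comap _
  haveI : y₀.LiesOver q := ⟨by
    show q = ((x.comap (algebraMap SA C)).comap (algebraMap T SA)).comap (algebraMap S T)
    rw [Ideal.comap_comap, ← IsScalarTower.algebraMap_eq, Ideal.comap_comap, ← IsScalarTower.algebraMap_eq,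
      hxq]⟩
  haveI : y₀.LiesOver p' := ⟨by
    show p' = ((x.comap (algebraMap SA C)).comap (algebraMap T SA)).comap (algebraMap R' T)
    rw [Ideal.comap_comap, ← IsScalarTower.algebraMap_eq, IsScalarTower.algebraMap_eq R' A SA,
      ← Ideal.comap_comap (f := algebraMap R' A), Ideal.comap_comap (f := algebraMap A SA),
      ← IsScalarTower.algebraMap_eq]
    show p' = (x.under A).comap (algebraMap R' A)
    rw [← hxm.over]
    exact (IsLocalization.AtPrime.comap_maximalIdeal A p').symm⟩
  haveI : P'.LiesOver q := ⟨rfl⟩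
  haveI := hPp
  have hPy : P' = y₀ := FlatDevBC.eq_of_liesOver (R := R) (R' := R') (T := S) (T' := T) p p' hκ q P' y₀
  have hQy : Q ≤ y := by
    intro b hb
    obtain ⟨c, s, rfl⟩ := IsLocalization.exists_mk'_eq (Algebra.algebraMapSubmonoid T p'.primeCompl) b
    have hc : c ∈ Q₀ := IsLocalization.mk'_mem_iff.1 hb
    have hc' : algebraMap T SA c ∈ y := show c ∈ y₀ from hPy ▸ hQP hc
    exact IsLocalization.mk'_mem_iff.2 hc'
  haveI : x.LiesOver y := ⟨rfl⟩
  obtain ⟨P, -, hP, hPQ⟩ := Ideal.exists_ideal_le_liesOver_of_le (R := SA) (S := C) x hQy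
  exact ⟨P, hP, hPQ.over.symm⟩

set_option maxHeartbeats 1600000 in
theorem projective_model {R S R' S' T : Type u} [CommRing R] [CommRing S] [Algebra R S] [Algebra.FiniteType R S]
    [CommRing R'] [CommRing S'] [Algebra R R'] [Algebra S S'] [Algebra R' S'] [Algebra R S'] [IsScalarTower R R' S']
    [IsScalarTower R S S'] [Algebra.Etale R R'] [Algebra.Etale S S']
    [CommRing T] [Algebra R' T] [Algebra S T] [Algebra R T] [IsScalarTower R R' T] [IsScalarTower R S T]
    [Algebra.IsPushout R R' S T] [Algebra.FiniteType R' T]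
    (p : Ideal R) [p.IsPrime] (p' : Ideal R') [p'.IsPrime] (hR : FlatCA.IsEtaleNhd R R' p p')
    {N NT : Type u} [AddCommGroup N] [Module S N] [Module.Finite S N] [AddCommGroup NT] [Module T NT] [Module S NT]
    [IsScalarTower S T NT] [Module R' NT] [IsScalarTower R' T NT] (g : N →ₗ[S] NT) (hg : IsBaseChange T g)
    (hpure : FlatCA.IsPureAlong R S N p) (hG : FlatEtNhd.Good R' p' S S' N)
    (hlift₀ : ∀ q : Ideal S, q.IsPrime → q.LiesOver p → ∃ Q' : Ideal S', Q'.IsPrime ∧
      Q'.comap (algebraMap S S') = q ∧ Q'.LiesOver p')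
    (SA NA : Type u) [CommRing SA] [Algebra R SA] [Algebra S SA] [Algebra (Localization.AtPrime p') SA]
    [IsScalarTower R S SA] [IsScalarTower R (Localization.AtPrime p') SA]
    [Algebra.IsPushout R S (Localization.AtPrime p') SA] [Algebra.FiniteType (Localization.AtPrime p') SA]
    [AddCommGroup NA] [Module SA NA] [Module S NA] [IsScalarTower S SA NA] [Module.Finite SA NA]
    [Module (Localization.AtPrime p') NA] [IsScalarTower (Localization.AtPrime p') SA NA]
    [Algebra R' SA] [IsScalarTower R' (Localization.AtPrime p') SA] [IsScalarTower R R' SA]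
    [Algebra T SA] [IsScalarTower R' T SA] [IsScalarTower S T SA] [Module T NA] [IsScalarTower T SA NA]
    (f : N →ₗ[S] NA) (hf : IsBaseChange SA f) : Module.Projective (Localization.AtPrime p') NA := by
  obtain ⟨C, _, _, _, _, _, _, hC, -, hfree, -, hlift⟩ := FlatEtNhd.exists_etale_model (R := R) p' hG SA NA f hf
  haveI := hC
  haveI : IsScalarTower (Localization.AtPrime p') C (C ⊗[SA] NA) := inferInstance
  haveI := hfree
  haveI : Module.Free (Localization.AtPrime p') (C ⊗[SA] NA) := Module.Free.of_equiv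
    ({ RestrictScalars.addEquiv (Localization.AtPrime p') C (C ⊗[SA] NA) with
      map_smul' := fun a m => IsScalarTower.algebraMap_smul C a _ } :
        RestrictScalars (Localization.AtPrime p') C (C ⊗[SA] NA) ≃ₗ[Localization.AtPrime p'] C ⊗[SA] NA)
  haveI : Module.Flat SA C := inferInstance
  haveI : IsScalarTower R T SA := IsScalarTower.to₁₃₄ R R' T SA
  have hAS : Algebra.IsPushout R (Localization.AtPrime p') S SA := Algebra.IsPushout.symm inferInstance
  haveI : Algebra.IsPushout R' (Localization.AtPrime p') T SA :=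
    (Algebra.IsPushout.comp_iff (R := R) (S := R') (R' := S) (S' := T) (T := Localization.AtPrime p') (T' := SA)).1 hAS
  haveI : IsScalarTower S T NA := IsScalarTower.to₁₂₄ S T SA NA
  let a : NT →ₗ[T] NA := hg.lift f
  have ha : IsBaseChange SA a := IsBaseChange.of_comp hg (by
    rw [show ((a.restrictScalars S) ∘ₗ g) = f from LinearMap.ext fun n => hg.lift_eq f n]
    exact hf)
  have hcov : Covers (Localization.AtPrime p') SA C NA :=
    covers_of_pure (R := R) (R' := R') (A := Localization.AtPrime p') (T := T) (SA := SA) (C := C) p p' hR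
      g hg a ha hpure fun q hq hqp => by
        obtain ⟨Q', hQ', hQ'c, hQ'p⟩ := hlift₀ q hq hqp
        obtain ⟨x, hx, hxq, hxm, -⟩ := hlift Q' hQ' hQ'p
        exact ⟨x, hx, hxq.trans hQ'c, hxm⟩
  exact projective_of_covering (A := Localization.AtPrime p') (B := SA) (C := C) NA hcov

set_option maxHeartbeats 1600000 in
theorem exists_projective_local {R S : Type u} [CommRing R] [CommRing S] [Algebra R S] [Algebra.FiniteType R S]
    (N : Type u) [AddCommGroup N] [Module S N] [Module R N] [IsScalarTower R S N] [Module.Finite S N]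
    (p : Ideal R) [p.IsPrime] (hflat : ∀ (q : Ideal S) [q.IsPrime], q.LiesOver p → FlatCA.FlatAt R q N)
    (hpure : FlatCA.IsPureAlong R S N p) :
    ∃ (R' : Type u) (_ : CommRing R') (_ : Algebra R R') (p' : Ideal R') (_ : p'.IsPrime),
      FlatCA.IsEtaleNhd R R' p p' ∧
        ∀ (SA NA : Type u) [CommRing SA] [Algebra R SA] [Algebra S SA] [Algebra (Localization.AtPrime p') SA]
          [IsScalarTower R S SA] [IsScalarTower R (Localization.AtPrime p') SA]
          [Algebra.IsPushout R S (Localization.AtPrime p') SA]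
          [AddCommGroup NA] [Module SA NA] [Module S NA] [IsScalarTower S SA NA]
          [Module (Localization.AtPrime p') NA] [IsScalarTower (Localization.AtPrime p') SA NA]
          (f : N →ₗ[S] NA), IsBaseChange SA f → Module.Projective (Localization.AtPrime p') NA := by
  obtain ⟨R', S', _, _, _, _, _, _, _, _, p', _, hR, hS, hG, hlift₀⟩ :=
    FlatEtNhd.exists_goodOn_fibre (R := R) N p hflat
  obtain ⟨heR, hp', -⟩ := id hR
  haveI := heR; haveI := hS
  refine ⟨R', inferInstance, inferInstance, p', inferInstance, hR, ?_⟩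
  intro SA NA _ _ _ _ _ _ hpo _ _ _ _ _ _ f hf
  haveI : Algebra.FiniteType (Localization.AtPrime p') SA :=
    Algebra.FiniteType.equiv
      (inferInstanceAs (Algebra.FiniteType (Localization.AtPrime p') (Localization.AtPrime p' ⊗[R] S)))
      (haveI := Algebra.IsPushout.symm hpo; Algebra.IsPushout.equiv R (Localization.AtPrime p') S SA)
  haveI : Module.Finite SA NA := Module.Finite.equiv hf.equiv
  letI : Algebra R' SA :=
    ((algebraMap (Localization.AtPrime p') SA).comp (algebraMap R' (Localization.AtPrime p'))).toAlgebra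
  haveI : IsScalarTower R' (Localization.AtPrime p') SA := IsScalarTower.of_algebraMap_eq' rfl
  haveI : IsScalarTower R R' SA := IsScalarTower.of_algebraMap_eq fun r => by
    show algebraMap R SA r =
      algebraMap (Localization.AtPrime p') SA (algebraMap R' (Localization.AtPrime p') (algebraMap R R' r))
    rw [← IsScalarTower.algebraMap_apply R R' (Localization.AtPrime p'),
      ← IsScalarTower.algebraMap_apply R (Localization.AtPrime p') SA]
  letI : Algebra S (R' ⊗[R] S) := Algebra.TensorProduct.rightAlgebra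
  haveI : IsScalarTower R S (R' ⊗[R] S) := Algebra.TensorProduct.right_isScalarTower
  haveI : Algebra.IsPushout R R' S (R' ⊗[R] S) := TensorProduct.isPushout (R := R) (S := R') (T := S)
  let σ : (R' ⊗[R] S) →ₐ[R'] SA := Algebra.TensorProduct.lift (Algebra.ofId R' SA) (IsScalarTower.toAlgHom R S SA)
    fun _ _ => Commute.all _ _
  letI : Algebra (R' ⊗[R] S) SA := σ.toRingHom.toAlgebra
  haveI : IsScalarTower R' (R' ⊗[R] S) SA := IsScalarTower.of_algebraMap_eq fun a => (σ.commutes a).symm
  haveI : IsScalarTower S (R' ⊗[R] S) SA := IsScalarTower.of_algebraMap_eq fun s => by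
    show algebraMap S SA s = Algebra.TensorProduct.lift _ _ _ ((1 : R') ⊗ₜ[R] s)
    rw [Algebra.TensorProduct.lift_tmul, map_one, one_mul]
    rfl
  letI : Module (R' ⊗[R] S) NA := Module.compHom NA (algebraMap (R' ⊗[R] S) SA)
  haveI : IsScalarTower (R' ⊗[R] S) SA NA := IsScalarTower.of_algebraMap_smul fun _ _ => rfl
  haveI : SMulCommClass R' S (R' ⊗[R] S) := ⟨fun a s c => by simp only [Algebra.smul_def]; ring⟩
  exact projective_model (T := R' ⊗[R] S) (NT := (R' ⊗[R] S) ⊗[S] N) p p' hR
    (TensorProduct.mk S (R' ⊗[R] S) N 1) (TensorProduct.isBaseChange S N (R' ⊗[R] S)) hpure hG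
    (fun q hq hqp => hlift₀ ⟨q, hq⟩ hqp hqp) SA NA f hf

end Groth.Agent.FlatPure
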