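import Groth.Agent.FlatPure.Contract
import Groth.Agent.RGLib.AssSpec
import Groth.Agent.GenFreeRed.Main
import Groth.Agent.DevEtale.Loci
import Groth.Agent.FlatClosed.Basic
import Groth.Agent.S9005
import Groth.Agent.S1245
import Mathlib.RingTheory.Ideal.KrullsHeightTheorem
import Mathlib.RingTheory.Ideal.MinimalPrime.Noetherian
import Mathlib.RingTheory.ZariskisMainTheorem

/-! Impurities over a Noetherian base can be realised on quasi-finite base changes. -/

set_option autoImplicit false
set_option backward.isDefEq.respectTransparency false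
set_option backward.isDefEq.respectTransparency.types false
attribute [-instance] CategoryTheory.catToReflQuiver

universe u

open TensorProduct

namespace Groth.Agent.FlatPure

attribute [local instance] Algebra.TensorProduct.rightAlgebra

theorem apply_mem_smul_top {R M M' : Type u} [CommRing R] [AddCommGroup M] [Module R M] [AddCommGroup M']
    [Module R M'] (I : Ideal R) (f : M →ₗ[R] M') {x : M} (hx : x ∈ I • (⊤ : Submodule R M)) :
    f x ∈ I • (⊤ : Submodule R M') :=
  Submodule.smul_induction_on hx (fun r hr z _ => by rw [map_smul]; exact Submodule.smul_mem_smul hr trivial)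
    fun a b ha hb => by rw [map_add]; exact add_mem ha hb

set_option maxHeartbeats 800000 in
/-- Associated points of the generic fibre spread to associated points of nearby fibres. -/
theorem exists_specialized_assoc {R S : Type u} [CommRing R] [IsDomain R] [CommRing S] [Algebra R S]
    [Algebra.FiniteType R S] {N : Type u} [AddCommGroup N] [Module S N] [Module R N] [IsScalarTower R S N]
    [Module.Finite S N] (P : Ideal S) [P.IsPrime] [P.LiesOver (⊥ : Ideal R)]
    (hass : FlatCA.fiberIdeal (⊥ : Ideal R) P ∈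
      associatedPrimes ((⊥ : Ideal R).Fiber S) (FlatCA.fiberMod (⊥ : Ideal R) S N)) :
    ∃ c : R, c ≠ 0 ∧ ∀ (v : Ideal R) [v.IsPrime], c ∉ v → ∃ Q : Ideal S, Q.IsPrime ∧ Q.LiesOver v ∧ P ≤ Q ∧
      FlatCA.fiberIdeal v Q ∈ associatedPrimes (v.Fiber S) (FlatCA.fiberMod v S N) := by
  classical
  obtain ⟨c₁, hc₁, hgood₁⟩ := GenFreeRed.exists_isGood R S N 1 one_ne_zero
  obtain ⟨c₂, hc₂, hgood₂⟩ := GenFreeRed.exists_isGood R S (S ⧸ P) 1 one_ne_zero
  rw [one_mul] at hc₁ hgood₁ hc₂ hgood₂
  refine ⟨c₁ * c₂, mul_ne_zero hc₁ hc₂, fun v _ hcv => ?_⟩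
  have h₁ : c₁ ∉ v := fun h => hcv (v.mul_mem_right _ h)
  have h₂ : c₂ ∉ v := fun h => hcv (v.mul_mem_left _ h)
  haveI : Module.Free (Localization.Away c₁) (LocalizedModule (Submonoid.powers c₁) N) := hgood₁.1
  haveI : Module.Flat R (Localization.Away c₁) := IsLocalization.flat _ (Submonoid.powers c₁)
  haveI : Module.Flat R (LocalizedModule (Submonoid.powers c₁) N) := Module.Flat.trans R (Localization.Away c₁) _
  have hflat : Module.Flat R (LocalizedModule (Submonoid.powers (algebraMap R S c₁)) N) :=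
    (DevEtale.flat_localized_iff_restrict R (Submonoid.powers c₁) (Submonoid.powers (algebraMap R S c₁))
      (fun d ⟨k, hk⟩ => ⟨k, by rw [← hk]; exact (map_pow (algebraMap R S) c₁ k).symm⟩)
      (fun d ⟨k, hk⟩ => ⟨1, c₁ ^ k, ⟨k, rfl⟩, by rw [mul_one, map_pow]; exact hk.symm⟩)).1 inferInstance
  have hexQ : ∃ Q : Ideal S, Q.IsPrime ∧ Q.LiesOver v ∧ P ≤ Q := by
    have hdisj : Disjoint ((P ⊔ v.map (algebraMap R S) : Ideal S) : Set S)
        (v.primeCompl.map (algebraMap R S) : Set S) := by
      rw [Set.disjoint_left]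
      rintro x hx ⟨r, hr, rfl⟩
      obtain ⟨x₁, hx₁, x₂, hx₂, hx₁₂⟩ := Submodule.mem_sup.1 hx
      let L := LocalizedModule (Submonoid.powers c₂) (S ⧸ P)
      haveI : Module.Free (Localization.Away c₂) L := hgood₂.1
      haveI : Nontrivial L := by
        refine ⟨LocalizedModule.mk 1 1, 0, fun h0 => ?_⟩
        rw [← LocalizedModule.zero_mk (1 : Submonoid.powers c₂), LocalizedModule.mk_eq] at h0
        obtain ⟨⟨_, k, rfl⟩, hk⟩ := h0
        simp only [Submonoid.smul_def, one_smul, smul_zero] at hk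
        rw [Algebra.smul_def, mul_one, IsScalarTower.algebraMap_apply R S (S ⧸ P), map_pow,
          Ideal.Quotient.algebraMap_eq, Ideal.Quotient.eq_zero_iff_mem] at hk
        have hc : c₂ ∈ P.comap (algebraMap R S) :=
          Ideal.mem_comap.2 (‹P.IsPrime›.mem_of_pow_mem k hk)
        rw [show P.comap (algebraMap R S) = ⊥ from (Ideal.over_def P ⊥).symm] at hc
        exact hc₂ (Ideal.mem_bot.1 hc)
      have hm : ∀ m : S ⧸ P, r • m ∈ v • (⊤ : Submodule R (S ⧸ P)) := by
        intro m
        obtain ⟨m, rfl⟩ := Ideal.Quotient.mk_surjective m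
        have hv : x₂ * m ∈ v • (⊤ : Submodule R S) := by
          rw [Ideal.smul_top_eq_map]
          exact Ideal.mul_mem_right m _ hx₂
        have := apply_mem_smul_top v (Ideal.Quotient.mkₐ R P).toLinearMap hv
        convert this using 1
        show r • Ideal.Quotient.mk P m = Ideal.Quotient.mk P (x₂ * m)
        rw [Algebra.smul_def, IsScalarTower.algebraMap_apply R S (S ⧸ P), Ideal.Quotient.algebraMap_eq, ← map_mul,
          ← hx₁₂, Ideal.Quotient.eq, add_mul, add_sub_cancel_right]
        exact P.mul_mem_right m hx₁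
      have hL : ∀ z : L, r • z ∈ v • (⊤ : Submodule R L) := by
        intro z
        induction z using LocalizedModule.induction_on with
        | _ m s =>
        let g : (S ⧸ P) →ₗ[R] L :=
          (LinearMap.lsmul (Localization.Away c₂) L (Localization.mk 1 s)).restrictScalars R ∘ₗ
            LocalizedModule.mkLinearMap (Submonoid.powers c₂) (S ⧸ P)
        have hg : ∀ m, g m = LocalizedModule.mk m s := fun m => by
          simp only [g, LinearMap.comp_apply, LinearMap.restrictScalars_apply, LinearMap.lsmul_apply,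
            LocalizedModule.mkLinearMap_apply]
          rw [LocalizedModule.mkLinearMap_apply, LocalizedModule.mk_smul_mk, one_smul, mul_one]
        have := apply_mem_smul_top v g (hm m)
        rw [map_smul, hg] at this
        exact this
      let b := Module.Free.chooseBasis (Localization.Away c₂) L
      obtain ⟨i⟩ : Nonempty (Module.Free.ChooseBasisIndex (Localization.Away c₂) L) := b.index_nonempty
      have := apply_mem_smul_top v ((b.coord i).restrictScalars R) (hL (b i))
      rw [map_smul] at this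
      have hmem : algebraMap R (Localization.Away c₂) r ∈ v.map (algebraMap R (Localization.Away c₂)) := by
        have h' := this
        rw [Ideal.smul_top_eq_map] at h'
        simpa [Algebra.smul_def] using h'
      have hd : Disjoint (Submonoid.powers c₂ : Set R) (v : Set R) :=
        (Ideal.disjoint_powers_iff_notMem c₂ ‹v.IsPrime›.isRadical).2 h₂
      exact hr ((IsLocalization.under_map_of_isPrime_disjoint (Submonoid.powers c₂) (Localization.Away c₂)
        ‹v.IsPrime› hd).le (Ideal.mem_comap.2 hmem))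
    obtain ⟨Q, hQ, hle, hQd⟩ := Ideal.exists_le_prime_disjoint _ _ hdisj
    refine ⟨Q, hQ, ⟨le_antisymm (Ideal.map_le_iff_le_comap.1 (le_sup_right.trans hle)) fun a ha => ?_⟩,
      le_sup_left.trans hle⟩
    by_contra hav
    exact Set.disjoint_left.1 hQd ha ⟨a, hav, rfl⟩
  obtain ⟨t, ht, htv, hPt⟩ := hexQ
  haveI := ht; haveI := htv
  have htc : algebraMap R S c₁ ∉ t := fun h => h₁ (by rw [Ideal.over_def t v]; exact h)
  obtain ⟨Q', hQ', hPQ, -⟩ := RGLib.exists_assoc_specialization (N := N) v ⊥ P hass t hPt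
    ((DevEtale.flat_away_iff R (algebraMap R S c₁)).1 hflat t htc)
  haveI : Q'.IsPrime := IsAssociatedPrime.isPrime hQ'
  refine ⟨Q'.comap (algebraMap S (v.Fiber S)), Ideal.IsPrime.comap _,
    ⟨(RGLib.comap_comap_fiber v Q').symm⟩, hPQ, ?_⟩
  rw [RGLib.fiberIdeal_comap v Q']
  exact hQ'

/-- A prime avoiding a given element with nothing strictly between it and the maximal ideal. -/
theorem exists_prime_avoiding {D : Type u} [CommRing D] [IsNoetherianRing D] [IsDomain D]
    (m : Ideal D) [m.IsPrime] (g : D) (hg : g ≠ 0) :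
    ∃ v : Ideal D, v.IsPrime ∧ v ≤ m ∧ g ∉ v ∧
      ∀ (w : Ideal D) [w.IsPrime], v < w → w ≤ m → w = m := by
  classical
  obtain ⟨v, ⟨hv, hvm, hgv⟩, hmax⟩ := set_has_maximal_iff_noetherian.mpr (inferInstance : IsNoetherian D D)
    {v : Ideal D | v.IsPrime ∧ v ≤ m ∧ g ∉ v} ⟨⊥, Ideal.isPrime_bot, bot_le, by simpa using hg⟩
  haveI := hv
  refine ⟨v, hv, hvm, hgv, fun w _ hvw hwm => ?_⟩
  by_contra hne
  have hgw : g ∈ w := by
    by_contra h
    exact hmax w ⟨‹_›, hwm, h⟩ hvw
  let J : Ideal D := v ⊔ Ideal.span {g}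
  have hJw : J ≤ w := sup_le hvw.le ((Ideal.span_singleton_le_iff_mem _).2 hgw)
  have hfin : J.minimalPrimes.Finite := Ideal.finite_minimalPrimes_of_isNoetherianRing D J
  obtain ⟨y, hym, hy⟩ : ∃ y ∈ m, ∀ q ∈ hfin.toFinset, y ∉ q := by
    by_contra hne'
    push Not at hne'
    have hsub : (m : Set D) ⊆ ⋃ q ∈ (hfin.toFinset : Set (Ideal D)), (q : Set D) := fun y hy => by
      obtain ⟨q, hq, hyq⟩ := hne' y hy
      exact Set.mem_biUnion hq hyq
    obtain ⟨q, hq, hmq⟩ := (Ideal.subset_union_prime (s := hfin.toFinset) (f := id) ⊤ ⊤ fun i hi _ _ =>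
      ((Set.Finite.mem_toFinset _).1 hi).1.1).1 hsub
    obtain ⟨q₀, hq₀, hq₀w⟩ := Ideal.exists_minimalPrimes_le hJw
    have hq' := (Set.Finite.mem_toFinset _).1 hq
    have hwq : w ≤ q := hwm.trans hmq
    exact hne (le_antisymm hwm (hmq.trans (hq'.2 ⟨‹_›, hJw⟩ hwq)))
  let π := Ideal.Quotient.mk v
  let I : Ideal D := v ⊔ Ideal.span {y}
  obtain ⟨q, hq, hqm⟩ := Ideal.exists_minimalPrimes_le (I := I) (J := m)
    (sup_le hvm ((Ideal.span_singleton_le_iff_mem _).2 hym))
  haveI := hq.1.1
  have hyq : y ∈ q := hq.1.2 (Ideal.mem_sup_right (Ideal.mem_span_singleton_self y))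
  have hvq : v ≤ q := le_sup_left.trans hq.1.2
  obtain ⟨q₀, hq₀, -⟩ := Ideal.exists_minimalPrimes_le hJw
  have hyv : y ∉ v := fun h => hy q₀ ((Set.Finite.mem_toFinset _).2 hq₀) (hq₀.1.2 (Ideal.mem_sup_left h))
  have hvq' : v < q := lt_of_le_of_ne hvq fun h => hyv (h ▸ hyq)
  have hgq : g ∈ q := by
    by_contra h
    exact hmax q ⟨inferInstance, hqm, h⟩ hvq'
  obtain ⟨q₁, hq₁, hq₁q⟩ := Ideal.exists_minimalPrimes_le (I := J) (J := q)
    (sup_le hvq ((Ideal.span_singleton_le_iff_mem _).2 hgq))
  haveI := hq₁.1.1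
  have hvq₁ : v < q₁ := lt_of_le_of_ne (le_sup_left.trans hq₁.1.2) fun h =>
    hgv (h ▸ hq₁.1.2 (Ideal.mem_sup_right (Ideal.mem_span_singleton_self g)))
  have hq₁q' : q₁ < q := lt_of_le_of_ne hq₁q fun h => hy q₁ ((Set.Finite.mem_toFinset _).2 hq₁) (h ▸ hyq)
  -- pass to the quotient by `v`
  have hker : ∀ a : Ideal D, v ≤ a → RingHom.ker π ≤ a := fun a ha => by rwa [Ideal.mk_ker]
  have hsurj : Function.Surjective π := Ideal.Quotient.mk_surjective
  have hmap : ∀ a : Ideal D, v ≤ a → (a.map π).comap π = a := fun a ha => by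
    rw [Ideal.comap_map_of_surjective π hsurj]
    exact sup_eq_left.2 (hker a ha)
  haveI : (q.map π).IsPrime := Ideal.map_isPrime_of_surjective hsurj (hker q hvq)
  haveI : (q₁.map π).IsPrime := Ideal.map_isPrime_of_surjective hsurj (hker q₁ hvq₁.le)
  have hmin : q.map π ∈ (Ideal.span {π y}).minimalPrimes := by
    refine ⟨⟨inferInstance, (Ideal.span_singleton_le_iff_mem _).2 (Ideal.mem_map_of_mem _ hyq)⟩,
      fun b hb hbq => ?_⟩
    haveI := hb.1
    have hvb : v ≤ b.comap π := fun x hx => by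
      show π x ∈ b
      rw [show π x = 0 from Ideal.Quotient.eq_zero_iff_mem.2 hx]
      exact b.zero_mem
    have hyb : y ∈ b.comap π := hb.2 (Ideal.mem_span_singleton_self _)
    have := hq.2 ⟨Ideal.IsPrime.comap π, sup_le hvb ((Ideal.span_singleton_le_iff_mem _).2 hyb)⟩
      ((Ideal.comap_mono hbq).trans (hmap q hvq).le)
    exact (Ideal.map_mono this).trans Ideal.map_comap_le
  have hht := Ideal.height_le_one_of_isPrincipal_of_mem_minimalPrimes (Ideal.span {π y}) (q.map π) hmin
  have h0 : (⊥ : Ideal (D ⧸ v)) < q₁.map π := lt_of_le_of_ne bot_le fun h => hvq₁.not_ge (by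
    rw [← hmap q₁ hvq₁.le, ← h, ← RingHom.ker_eq_comap_bot, Ideal.mk_ker])
  have h1 : q₁.map π < q.map π := lt_of_le_of_ne (Ideal.map_mono hq₁q) fun h => hq₁q'.ne (by
    rw [← hmap q₁ hvq₁.le, h, hmap q hvq])
  have hb1 : (1 : ℕ∞) ≤ (q₁.map π).height := by
    rw [Order.one_le_iff_pos, pos_iff_ne_zero]
    intro hz
    have := Ideal.height_le_iff.1 (le_of_eq hz) ⊥ Ideal.isPrime_bot h0
    simp at this
  have := (Ideal.height_le_iff (p := q.map π) (n := 1)).1 hht (q₁.map π) inferInstance h1
  exact absurd hb1 (not_le.2 this)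

/-- An isolated point of its fibre is quasi-finite. -/
theorem quasiFiniteAt_of_isolated {A T : Type u} [CommRing A] [CommRing T] [Algebra A T] [Algebra.FiniteType A T]
    (p : Ideal A) [p.IsPrime] (t : Ideal T) [t.IsPrime] [t.LiesOver p]
    (hmax : ∀ (w : Ideal T) [w.IsPrime], w.LiesOver p → t ≤ w → w = t)
    (hmin : ∀ (w : Ideal T) [w.IsPrime], w.LiesOver p → w ≤ t → w = t) : Algebra.QuasiFiniteAt A t := by
  classical
  let F := p.Fiber T
  haveI : IsNoetherianRing F := RGLib.isNoetherianRing_fiber p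
  let φ : PrimeSpectrum F → Ideal T := fun x => x.asIdeal.comap (algebraMap T F)
  have hφp : ∀ x, (φ x).LiesOver p := fun x => ⟨(RGLib.comap_comap_fiber p x.asIdeal).symm⟩
  have hφinj : ∀ x y, φ x = φ y → x = y := fun x y h => PrimeSpectrum.ext (by
    rw [← RGLib.fiberIdeal_comap p x.asIdeal, ← RGLib.fiberIdeal_comap p y.asIdeal]
    exact congrArg (FlatCA.fiberIdeal p) h)
  haveI hprime : (FlatCA.fiberIdeal p t).IsPrime := by
    obtain ⟨x, hx⟩ : ∃ x : PrimeSpectrum F, φ x = t := by
      refine ⟨PrimeSpectrum.primesOverOrderIsoFiber A T p ⟨t, ‹t.IsPrime›, ‹t.LiesOver p›⟩, ?_⟩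
      exact congrArg (fun z => z.1)
        ((PrimeSpectrum.primesOverOrderIsoFiber A T p).symm_apply_apply ⟨t, ‹t.IsPrime›, ‹t.LiesOver p›⟩)
    rw [← hx, RGLib.fiberIdeal_comap p x.asIdeal]
    exact x.2
  let Q : PrimeSpectrum F := ⟨FlatCA.fiberIdeal p t, hprime⟩
  have hQ : φ Q = t := comap_fiberIdeal p t
  have hopen : IsOpen ({Q} : Set (PrimeSpectrum F)) := by
    have hfin : (minimalPrimes F).Finite := Ideal.finite_minimalPrimes_of_isNoetherianRing F ⊥
    have hc : ({Q} : Set (PrimeSpectrum F))ᶜ =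
        ⋃ i ∈ hfin.toFinset.filter (fun i => i ≠ Q.asIdeal), PrimeSpectrum.zeroLocus (i : Set F) := by
      ext x
      simp only [Set.mem_compl_iff, Set.mem_singleton_iff, Set.mem_iUnion, Finset.mem_filter,
        Set.Finite.mem_toFinset, PrimeSpectrum.mem_zeroLocus, SetLike.coe_subset_coe]
      constructor
      · intro hx
        obtain ⟨i, hi, hix⟩ := Ideal.exists_minimalPrimes_le (I := (⊥ : Ideal F)) (J := x.asIdeal) bot_le
        refine ⟨i, ⟨hi, fun he => hx (hφinj x Q ?_)⟩, hix⟩
        rw [hQ]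
        haveI := hφp x
        exact hmax (φ x) inferInstance (hQ.ge.trans (Ideal.comap_mono (he ▸ hix)))
      · rintro ⟨i, ⟨hi, hne⟩, hix⟩ rfl
        haveI := hi.1.1
        refine hne ?_
        have hi' : φ ⟨i, hi.1.1⟩ = t := hmin _ (hφp ⟨i, hi.1.1⟩) ((Ideal.comap_mono hix).trans hQ.le)
        exact congrArg PrimeSpectrum.asIdeal (hφinj ⟨i, hi.1.1⟩ Q (hi'.trans hQ.symm))
    rw [← isClosed_compl_iff, hc]
    exact isClosed_biUnion_finset fun i _ => PrimeSpectrum.isClosed_zeroLocus _
  haveI : Algebra.QuasiFiniteAt p.ResidueField Q.asIdeal := Algebra.QuasiFiniteAt.of_isOpen_singleton Q hopen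
  exact Algebra.QuasiFiniteAt.of_quasiFiniteAt_residueField p t Q.asIdeal hQ

variable {A B N : Type u} [CommRing A] [CommRing B] [Algebra A B] [Algebra.FiniteType A B] [AddCommGroup N]
  [Module B N] [Module.Finite B N]

set_option maxHeartbeats 1600000 in
/-- There is no impurity whose base lies over a single prime: the fibre module is free. -/
theorem no_impurity_in_fibre {p : Ideal A} [p.IsPrime]
    {A' B' N' : Type u} [CommRing A'] [CommRing B'] [Algebra A A'] [Algebra B B']
    [Algebra A' B'] [Algebra A B'] [IsScalarTower A B B'] [IsScalarTower A A' B']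
    [AddCommGroup N'] [Module B' N'] [Module B N'] [IsScalarTower B B' N'] [Module A' N']
    [IsScalarTower A' B' N'] {f : N →ₗ[B] N'} {t' t : Ideal A'} [t'.IsPrime] [t.IsPrime]
    {P : Ideal B'} [P.IsPrime] (hp : p ≤ RingHom.ker (algebraMap A A'))
    (hunit : ∀ a ∉ p, IsUnit (algebraMap A A' a)) : ¬ FlatCA.IsImpurity A B N p A' B' N' f t' t P := by
  rintro ⟨hpo, hbc, hle, -, hPt', hass, hno⟩
  haveI := hpo
  let k := p.ResidueField
  obtain ⟨Bk, Nk, _, _, _, _, _, _, _, _, _, _, _, _, fk, hpo1, hpo2, hfk⟩ := exists_base_model A k B N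
  haveI := hpo1; haveI := hpo2
  letI : Algebra k A' := (Ideal.ResidueField.lift p (algebraMap A A') hp fun a ha => hunit a ha).toAlgebra
  haveI : IsScalarTower A k A' := IsScalarTower.of_algebraMap_eq fun a =>
    (Ideal.ResidueField.lift_algebraMap p (algebraMap A A') _ _ a).symm
  letI : Algebra k B' := ((algebraMap A' B').comp (algebraMap k A')).toAlgebra
  haveI : IsScalarTower k A' B' := IsScalarTower.of_algebraMap_eq' rfl
  haveI : IsScalarTower A k B' := IsScalarTower.to₁₂₄ A k A' B'
  let φ : Bk →ₐ[A] B' := Algebra.pushoutDesc Bk (IsScalarTower.toAlgHom A k B') (IsScalarTower.toAlgHom A B B')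
    fun _ _ => mul_comm _ _
  letI : Algebra Bk B' := φ.toRingHom.toAlgebra
  haveI : IsScalarTower k Bk B' := IsScalarTower.of_algebraMap_eq fun x => by
    show algebraMap k B' x = φ (algebraMap k Bk x)
    rw [Algebra.pushoutDesc_left]
    rfl
  haveI : IsScalarTower B Bk B' := IsScalarTower.of_algebraMap_eq fun b => by
    show algebraMap B B' b = φ (algebraMap B Bk b)
    rw [Algebra.pushoutDesc_right]
    rfl
  haveI : IsScalarTower A Bk B' := IsScalarTower.to₁₃₄ A k Bk B'
  haveI : Algebra.IsPushout A A' B B' := Algebra.IsPushout.symm hpo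
  haveI : Algebra.IsPushout k A' Bk B' :=
    (Algebra.IsPushout.comp_iff (R := A) (S := k) (R' := B) (S' := Bk) (T := A') (T' := B')).1 inferInstance
  haveI : Algebra.IsPushout k Bk A' B' := Algebra.IsPushout.symm inferInstance
  haveI : Algebra.FiniteType k Bk :=
    Algebra.FiniteType.equiv (inferInstanceAs (Algebra.FiniteType k (k ⊗[A] B))) (Algebra.IsPushout.equiv A k B Bk)
  haveI : Module.Finite Bk Nk := Module.Finite.equiv hfk.equiv
  letI : Module Bk N' := Module.compHom N' (algebraMap Bk B')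
  haveI : IsScalarTower Bk B' N' := IsScalarTower.of_algebraMap_smul fun _ _ => rfl
  haveI : IsScalarTower B Bk N' := IsScalarTower.to₁₂₄ B Bk B' N'
  let g : Nk →ₗ[Bk] N' := hfk.lift f
  have hg : IsBaseChange B' g := IsBaseChange.of_comp hfk (by
    rw [show ((g.restrictScalars B) ∘ₗ fk) = f from LinearMap.ext fun n => hfk.lift_eq f n]; exact hbc)
  have ht : t.LiesOver (⊥ : Ideal k) := ⟨by
    show (⊥ : Ideal k) = t.comap (algebraMap k A')
    exact ((Ideal.eq_bot_or_top _).resolve_right (Ideal.comap_ne_top _ (Ideal.IsPrime.ne_top ‹_›))).symm⟩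
  exact Groth.Agent.S9005.result (A := k) (B := Bk) Nk ⊥ A' B' N' g t' t P
    ⟨inferInstance, hg, hle, ht, hPt', hass, hno⟩

end Groth.Agent.FlatPure

namespace Groth.Agent.FlatPure

attribute [local instance] Algebra.TensorProduct.rightAlgebra

variable {A B N : Type u} [CommRing A] [CommRing B] [Algebra A B] [Algebra.FiniteType A B] [AddCommGroup N]
  [Module B N] [Module.Finite B N]

set_option maxHeartbeats 3200000 in
/-- When the local ring at `p` is Noetherian, an impurity can be found on a quasi-finite base change. -/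
theorem hasImpurity_quasiFinite (p : Ideal A) [p.IsPrime] [IsNoetherianRing (Localization.AtPrime p)]
    (h : FlatCA.HasImpurity A B N p (fun _ _ _ _ => True)) :
    FlatCA.HasImpurity A B N p
      (fun A' _ _ t => ∃ _ : t.IsPrime, Algebra.FiniteType A A' ∧ Algebra.QuasiFiniteAt A t) := by
  classical
  obtain ⟨A', B', N', _, _, _, _, _, _, _, _, _, _, _, _, _, _, f, t', t, _, _, P, _, himp, hfp, hmaxt⟩ :=
    Groth.Agent.S1245.result N p h
  haveI := hfp
  obtain ⟨-, -, hle, htp, -⟩ := id himp
  haveI := htp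
  -- pass to the closure of `t'`
  let R := A' ⧸ t'
  let π : A' →+* R := algebraMap A' R
  have hπ : Function.Surjective π := Ideal.Quotient.mk_surjective
  have hker : RingHom.ker π = t' := Ideal.mk_ker
  haveI : Algebra.FiniteType A R :=
    Algebra.FiniteType.of_surjective (IsScalarTower.toAlgHom A A' R) hπ
  let w : Ideal R := t.map π
  haveI : w.IsPrime := Ideal.map_isPrime_of_surjective hπ (hker.trans_le hle)
  have hwc : w.comap π = t := by
    rw [Ideal.comap_map_of_surjective π hπ]
    exact sup_eq_left.2 (hker.trans_le hle)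
  haveI : w.LiesOver t := ⟨hwc.symm⟩
  haveI : w.LiesOver p := Ideal.LiesOver.trans w t p
  haveI : (⊥ : Ideal R).LiesOver t' := ⟨(hker.symm.trans (RingHom.ker_eq_comap_bot π))⟩
  obtain ⟨BR, NR, _, _, _, _, _, _, _, _, _, _, _, _, fR, PR, _, himpR⟩ :=
    impurity_up himp R (⊥ : Ideal R) w bot_le
  obtain ⟨hpoR, hbcR, -, -, hPR, hassR, hnoR⟩ := id himpR
  haveI := hpoR; haveI := hPR
  haveI : Algebra.IsPushout A R B BR := Algebra.IsPushout.symm hpoR
  haveI : Algebra.FiniteType R BR :=
    Algebra.FiniteType.equiv (inferInstanceAs (Algebra.FiniteType R (R ⊗[A] B))) (Algebra.IsPushout.equiv A R B BR)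
  haveI : Module.Finite BR NR := Module.Finite.equiv hbcR.equiv
  obtain ⟨c, hc, hspread⟩ := exists_specialized_assoc PR hassR
  have hmax : ∀ (v : Ideal R) [v.IsPrime], v.LiesOver p → w ≤ v → v = w := by
    intro v _ hv hwv
    haveI := hv
    haveI : (v.comap π).IsPrime := Ideal.IsPrime.comap _
    haveI : v.LiesOver (v.comap π) := ⟨rfl⟩
    haveI : (v.comap π).LiesOver p := Ideal.LiesOver.tower_bot v (v.comap π) p
    have hle' : FlatCA.fiberIdeal p t ≤ FlatCA.fiberIdeal p (v.comap π) :=
      Ideal.map_mono (hwc.ge.trans (Ideal.comap_mono hwv))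
    have hne : FlatCA.fiberIdeal p (v.comap π) ≠ ⊤ := fun htop => by
      have hc' := comap_fiberIdeal p (v.comap π)
      rw [htop, Ideal.comap_top] at hc'
      exact Ideal.IsPrime.ne_top ‹(v.comap π).IsPrime› hc'.symm
    have heq := hmaxt.eq_of_le hne hle'
    have heq' : v.comap π = t := by
      rw [← comap_fiberIdeal p (v.comap π), ← heq, comap_fiberIdeal p t]
    rw [← Ideal.map_comap_of_surjective π hπ v, heq']
  -- `p` does not vanish on `R`
  obtain ⟨a, hap, ha⟩ : ∃ a ∈ p, algebraMap A R a ≠ 0 := by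
    by_contra hcon
    push Not at hcon
    let Rt := Localization.AtPrime w
    have hw0 : Disjoint (w.primeCompl : Set R) ((⊥ : Ideal R) : Set R) :=
      Set.disjoint_left.2 fun x hx hx0 => hx (by rw [show x = 0 from Ideal.mem_bot.1 hx0]; exact w.zero_mem)
    haveI : ((⊥ : Ideal R).map (algebraMap R Rt)).IsPrime :=
      IsLocalization.isPrime_of_isPrime_disjoint w.primeCompl Rt ⊥ inferInstance hw0
    haveI : ((⊥ : Ideal R).map (algebraMap R Rt)).LiesOver (⊥ : Ideal R) :=
      ⟨(IsLocalization.under_map_of_isPrime_disjoint w.primeCompl Rt inferInstance hw0).symm⟩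
    haveI : (IsLocalRing.maximalIdeal Rt).LiesOver w := ⟨(Localization.AtPrime.comap_maximalIdeal).symm⟩
    obtain ⟨B₂, N₂, _, _, _, _, _, _, _, _, _, _, _, _, f₂, P₂, _, himp₂⟩ :=
      impurity_up himpR Rt ((⊥ : Ideal R).map (algebraMap R Rt)) (IsLocalRing.maximalIdeal Rt)
        (by rw [Ideal.map_bot]; exact bot_le)
    refine no_impurity_in_fibre (fun x hx => ?_) (fun x hx => ?_) himp₂
    · rw [RingHom.mem_ker, IsScalarTower.algebraMap_apply A R Rt, hcon x hx, map_zero]
    · rw [IsScalarTower.algebraMap_apply A R Rt]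
      exact IsLocalization.map_units (M := w.primeCompl) Rt
        ⟨algebraMap A R x, fun h' => hx (by rw [Ideal.over_def w p]; exact h')⟩
  obtain ⟨v, hv, hvw, hav, hgap⟩ : ∃ v : Ideal R, v.IsPrime ∧ v ≤ w ∧ c * algebraMap A R a ∉ v ∧
      ∀ (u : Ideal R) [u.IsPrime], v < u → u ≤ w → u = w := by
    let S₀ := Algebra.algebraMapSubmonoid R p.primeCompl
    let D := Localization S₀
    letI : Algebra (Localization.AtPrime p) D :=
      (IsLocalization.map D (algebraMap A R) (M := p.primeCompl) (T := S₀) p.primeCompl.le_comap_map).toAlgebra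
    haveI : IsScalarTower A (Localization.AtPrime p) D := IsScalarTower.of_algebraMap_eq fun x => by
      rw [RingHom.algebraMap_toAlgebra, IsLocalization.map_eq]
      exact IsScalarTower.algebraMap_apply A R D x
    haveI : Algebra.IsPushout A R (Localization.AtPrime p) D :=
      (Algebra.isLocalization_iff_isPushout (R := A) (T := R) p.primeCompl (Localization.AtPrime p)).1 inferInstance
    haveI : Algebra.IsPushout A (Localization.AtPrime p) R D := Algebra.IsPushout.symm inferInstance
    haveI : Algebra.FiniteType (Localization.AtPrime p) D :=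
      Algebra.FiniteType.equiv (inferInstanceAs (Algebra.FiniteType _ ((Localization.AtPrime p) ⊗[A] R)))
        (Algebra.IsPushout.equiv A (Localization.AtPrime p) R D)
    haveI : IsNoetherianRing D := Algebra.FiniteType.isNoetherianRing (Localization.AtPrime p) D
    have hS₀ : ∀ u : Ideal R, u ≤ w → Disjoint (S₀ : Set R) (u : Set R) := fun u hu => by
      rw [Set.disjoint_left]
      rintro _ ⟨x, hx, rfl⟩ hxu
      exact hx (by rw [Ideal.over_def w p]; exact hu hxu)
    have h0 : (0 : R) ∉ S₀ := fun h' => Set.disjoint_left.1 (hS₀ w le_rfl) h' w.zero_mem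
    have hnz : S₀ ≤ nonZeroDivisors R := le_nonZeroDivisors_of_noZeroDivisors h0
    haveI : IsDomain D := IsLocalization.isDomain_localization hnz
    haveI : (w.map (algebraMap R D)).IsPrime :=
      IsLocalization.isPrime_of_isPrime_disjoint S₀ D w ‹_› (hS₀ w le_rfl)
    have hwD : (w.map (algebraMap R D)).comap (algebraMap R D) = w :=
      IsLocalization.under_map_of_isPrime_disjoint S₀ D ‹_› (hS₀ w le_rfl)
    obtain ⟨vD, hvD, hvwD, havD, hgapD⟩ := exists_prime_avoiding (w.map (algebraMap R D))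
      (algebraMap R D (c * algebraMap A R a))
      ((map_ne_zero_iff _ (IsLocalization.injective D hnz)).2 (mul_ne_zero hc ha))
    haveI := hvD
    refine ⟨vD.comap (algebraMap R D), Ideal.IsPrime.comap _, (Ideal.comap_mono hvwD).trans hwD.le,
      fun h' => havD h', fun u hu hlt huw => ?_⟩
    haveI : (u.map (algebraMap R D)).IsPrime :=
      IsLocalization.isPrime_of_isPrime_disjoint S₀ D u hu (hS₀ u huw)
    have huD : (u.map (algebraMap R D)).comap (algebraMap R D) = u :=
      IsLocalization.under_map_of_isPrime_disjoint S₀ D hu (hS₀ u huw)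
    have hlt' : vD < u.map (algebraMap R D) := by
      refine lt_of_le_of_ne ?_ fun he => hlt.ne (by rw [he, huD])
      rw [← IsLocalization.map_comap S₀ D vD]
      exact Ideal.map_mono hlt.le
    rw [← huD, hgapD (u.map (algebraMap R D)) hlt' (Ideal.map_mono huw), hwD]
  haveI := hv
  have hcv : c ∉ v := fun h' => hav (v.mul_mem_right _ h')
  have hapv : algebraMap A R a ∉ v := fun h' => hav (v.mul_mem_left _ h')
  obtain ⟨Q, hQ, hQv, hPQ, hassQ⟩ := hspread v hcv
  haveI := hQ; haveI := hQv
  have himpv : FlatCA.IsImpurity A B N p R BR NR fR v w Q :=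
    ⟨hpoR, hbcR, hvw, inferInstance, hQv, hassQ, fun Q' _ hQQ' => hnoR Q' (hPQ.trans hQQ')⟩
  let T := R ⧸ v
  let ρ : R →+* T := algebraMap R T
  have hρ : Function.Surjective ρ := Ideal.Quotient.mk_surjective
  have hkerρ : RingHom.ker ρ = v := Ideal.mk_ker
  haveI : Algebra.FiniteType A T :=
    Algebra.FiniteType.of_surjective (IsScalarTower.toAlgHom A R T) hρ
  let wT : Ideal T := w.map ρ
  haveI : wT.IsPrime := Ideal.map_isPrime_of_surjective hρ (hkerρ.trans_le hvw)
  have hwTc : wT.comap ρ = w := by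
    rw [Ideal.comap_map_of_surjective ρ hρ]
    exact sup_eq_left.2 (hkerρ.trans_le hvw)
  haveI : wT.LiesOver w := ⟨hwTc.symm⟩
  haveI : wT.LiesOver p := Ideal.LiesOver.trans wT w p
  haveI : (⊥ : Ideal T).LiesOver v := ⟨(hkerρ.symm.trans (RingHom.ker_eq_comap_bot ρ))⟩
  obtain ⟨BT, NT, _, _, _, _, _, _, _, _, _, _, _, _, fT, PT, _, himpT⟩ :=
    impurity_up himpv T (⊥ : Ideal T) wT bot_le
  refine ⟨T, BT, NT, inferInstance, inferInstance, inferInstance, inferInstance, inferInstance, inferInstance,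
    inferInstance, inferInstance, inferInstance, inferInstance, inferInstance, inferInstance, inferInstance,
    inferInstance, fT, ⊥, wT, inferInstance, inferInstance, PT, inferInstance, himpT, inferInstance, inferInstance,
    quasiFiniteAt_of_isolated p wT (fun u _ hu hwu => ?_) (fun u _ hu huw => ?_)⟩
  · haveI := hu
    haveI : (u.comap ρ).IsPrime := Ideal.IsPrime.comap _
    haveI : u.LiesOver (u.comap ρ) := ⟨rfl⟩
    haveI : (u.comap ρ).LiesOver p := Ideal.LiesOver.tower_bot u (u.comap ρ) p
    have := hmax (u.comap ρ) inferInstance (hwTc.ge.trans (Ideal.comap_mono hwu))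
    rw [← Ideal.map_comap_of_surjective ρ hρ u, this]
  · haveI := hu
    haveI : (u.comap ρ).IsPrime := Ideal.IsPrime.comap _
    have hvu : v < u.comap ρ := by
      refine lt_of_le_of_ne (hkerρ.ge.trans (Ideal.comap_mono bot_le)) fun he => hapv ?_
      rw [he, Ideal.mem_comap]
      show algebraMap R T (algebraMap A R a) ∈ u
      rw [← IsScalarTower.algebraMap_apply A R T]
      show a ∈ u.under A
      rw [← Ideal.over_def u p]
      exact hap
    have := hgap (u.comap ρ) hvu ((Ideal.comap_mono huw).trans hwTc.le)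
    rw [← Ideal.map_comap_of_surjective ρ hρ u, this]

end Groth.Agent.FlatPure
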