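import Groth.Agent.FlatPure.CoverSpread
import Groth.Agent.FlatPure.Cover2
import Groth.Agent.FlatEtProj.Fibre

/-! Purity of a flat module is an open condition on the base. -/

set_option autoImplicit false
set_option backward.isDefEq.respectTransparency false
set_option backward.isDefEq.respectTransparency.types false
attribute [-instance] CategoryTheory.catToReflQuiver

universe u

open TensorProduct IsLocalRing

namespace Groth.Agent.FlatPure

attribute [local instance] Algebra.TensorProduct.rightAlgebra

set_option maxHeartbeats 1600000 in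
theorem projective_baseChange_of_covers {R A T C NT M TA NA : Type u} [CommRing R] [CommRing A] [CommRing T]
    [CommRing C] [CommRing TA] [Algebra R A] [Algebra R T] [Algebra T C] [Algebra R C] [IsScalarTower R T C]
    [Algebra.FiniteType R T] [Algebra.Etale T C] [Algebra A TA] [Algebra T TA] [Algebra R TA] [IsScalarTower R A TA]
    [IsScalarTower R T TA] [Algebra.IsPushout R A T TA]
    [AddCommGroup NT] [Module T NT] [Module.Finite T NT] [AddCommGroup M] [Module C M] [Module T M]
    [IsScalarTower T C M] [Module R M] [IsScalarTower R C M] [Module.Projective R M] (u : NT →ₗ[T] M)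
    (hu : IsBaseChange C u) [AddCommGroup NA] [Module TA NA] [Module T NA] [IsScalarTower T TA NA] [Module A NA]
    [IsScalarTower A TA NA] (g : NT →ₗ[T] NA) (hg : IsBaseChange TA g)
    (hcov : ∀ (s : Ideal A) [s.IsPrime] (Q : Ideal T) [Q.IsPrime], Q.LiesOver (s.comap (algebraMap R A)) →
      FlatCA.fiberIdeal (s.comap (algebraMap R A)) Q ∈ associatedPrimes ((s.comap (algebraMap R A)).Fiber T)
        (FlatCA.fiberMod (s.comap (algebraMap R A)) T NT) →
      ∃ Q' : Ideal C, Q'.IsPrime ∧ Q'.comap (algebraMap T C) = Q) :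
    Module.Projective A NA := by
  obtain ⟨CA, MA, _, _, _, _, _, _, _, _, _, _, _, _, g', hpoC', hpoC, hg'⟩ := exists_base_model R A C M
  haveI := hpoC'; haveI := hpoC
  let φ : TA →ₐ[R] CA := Algebra.pushoutDesc TA (IsScalarTower.toAlgHom R A CA)
    ((IsScalarTower.toAlgHom R C CA).comp (IsScalarTower.toAlgHom R T C)) fun _ _ => mul_comm _ _
  letI : Algebra TA CA := φ.toRingHom.toAlgebra
  letI : Algebra T CA := ((algebraMap C CA).comp (algebraMap T C)).toAlgebra
  haveI : IsScalarTower T C CA := IsScalarTower.of_algebraMap_eq' rfl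
  haveI : IsScalarTower T TA CA := IsScalarTower.of_algebraMap_eq fun b => by
    show algebraMap C CA (algebraMap T C b) = φ (algebraMap T TA b)
    rw [Algebra.pushoutDesc_right]
    rfl
  haveI : IsScalarTower A TA CA := IsScalarTower.of_algebraMap_eq fun a => by
    show _ = φ (algebraMap A TA a)
    rw [Algebra.pushoutDesc_left]
    rfl
  haveI : IsScalarTower R T CA := IsScalarTower.to₁₂₄ R T C CA
  haveI : IsScalarTower R TA CA := IsScalarTower.to₁₃₄ R A TA CA
  haveI : Algebra.IsPushout R T A TA := Algebra.IsPushout.symm inferInstance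
  haveI : Algebra.IsPushout T C TA CA :=
    (Algebra.IsPushout.comp_iff (R := R) (S := T) (R' := A) (S' := TA) (T := C) (T' := CA)).1 hpoC
  haveI : Algebra.IsPushout T TA C CA := Algebra.IsPushout.symm inferInstance
  haveI : Algebra.Etale TA CA := etale_of_isPushout (R := T) (S := TA) (R' := C) (S' := CA)
  haveI : Algebra.FiniteType A TA :=
    Algebra.FiniteType.equiv (inferInstanceAs (Algebra.FiniteType A (A ⊗[R] T))) (Algebra.IsPushout.equiv R A T TA)
  haveI : Module.Finite TA NA := Module.Finite.equiv hg.equiv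
  haveI : Module.Projective A MA :=
    Module.Projective.of_equiv ((Algebra.IsPushout.cancelBaseChange R A C CA M).symm.trans
      (hg'.equiv.restrictScalars A))
  letI : Module T MA := Module.compHom MA (algebraMap T CA)
  haveI : IsScalarTower T CA MA := IsScalarTower.of_algebraMap_smul fun _ _ => rfl
  haveI : IsScalarTower T C MA := IsScalarTower.to₁₂₄ T C CA MA
  letI : Module TA MA := Module.compHom MA (algebraMap TA CA)
  haveI : IsScalarTower TA CA MA := IsScalarTower.of_algebraMap_smul fun _ _ => rfl
  haveI : IsScalarTower T TA MA := IsScalarTower.to₁₂₄ T TA CA MA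
  let l : NT →ₗ[T] MA := (g'.restrictScalars T).comp u
  have hl : IsBaseChange CA l := hu.comp hg'
  let w : NA →ₗ[TA] MA := hg.lift l
  have hw : IsBaseChange CA w := IsBaseChange.of_comp hg (by
    rw [show ((w.restrictScalars T) ∘ₗ g) = l from LinearMap.ext fun n => hg.lift_eq l n]
    exact hl)
  haveI : Module.Projective A (CA ⊗[TA] NA) := Module.Projective.of_equiv (hw.equiv.restrictScalars A).symm
  have hcov' : Covers A TA CA NA := by
    intro s Q _ _ hQs hassQ
    haveI : (s.comap (algebraMap R A)).IsPrime := Ideal.IsPrime.comap _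
    haveI : s.LiesOver (s.comap (algebraMap R A)) := ⟨rfl⟩
    obtain ⟨hQ₀, hass₀⟩ :=
      (fibre_assoc (A := R) (A' := A) (B := T) (B' := TA) g hg (s.comap (algebraMap R A)) s).2 Q hassQ
    haveI : (Q.comap (algebraMap T TA)).IsPrime := Ideal.IsPrime.comap _
    obtain ⟨Q₀', hQ₀', hc⟩ := hcov s (Q.comap (algebraMap T TA)) hQ₀ hass₀
    haveI := hQ₀'
    obtain ⟨Q', hQ', hQ'Q, -⟩ := S6919.exists_prime_over (R := T) (S := TA) (R' := C) (S' := CA) Q Q₀' hc.symm
    exact ⟨Q', hQ', hQ'Q⟩
  exact projective_of_covering (A := A) (B := TA) (C := CA) NA hcov'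

set_option maxHeartbeats 1600000 in
theorem exists_open_univPure {R S : Type u} [CommRing R] [CommRing S] [Algebra R S] [Algebra.FinitePresentation R S]
    (N : Type u) [AddCommGroup N] [Module S N] [Module R N] [IsScalarTower R S N] [Module.FinitePresentation S N]
    (p : Ideal R) [p.IsPrime] (hflat : ∀ (q : Ideal S) [q.IsPrime], q.LiesOver p → FlatCA.FlatAt R q N)
    (hpure : FlatCA.IsPureAlong R S N p) :
    ∃ U : Set (PrimeSpectrum R), IsOpen U ∧ (⟨p, inferInstance⟩ : PrimeSpectrum R) ∈ U ∧
      ∀ q ∈ U, FlatCA.IsUnivPureAlong R S N q.asIdeal := by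
  obtain ⟨R', S', _, _, _, _, _, _, _, _, p', _, hR, hS, hG, hlift⟩ :=
    FlatEtProj.exists_pgoodOn_fibre (R := R) N p hflat
  obtain ⟨heR, hp', -⟩ := id hR
  haveI := heR; haveI := hS; haveI := hp'
  obtain ⟨T, NT, _, _, _, _, _, _, _, _, _, _, _, _, g, hpoT', hpoT, hg⟩ := exists_base_model R R' S N
  haveI := hpoT'; haveI := hpoT
  let π : T →ₐ[R] S' := Algebra.pushoutDesc T (IsScalarTower.toAlgHom R R' S') (IsScalarTower.toAlgHom R S S')
    fun _ _ => mul_comm _ _
  letI : Algebra T S' := π.toRingHom.toAlgebra
  haveI : IsScalarTower R' T S' := IsScalarTower.of_algebraMap_eq fun a => by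
    show _ = π (algebraMap R' T a)
    rw [Algebra.pushoutDesc_left]
    rfl
  haveI : IsScalarTower S T S' := IsScalarTower.of_algebraMap_eq fun a => by
    show _ = π (algebraMap S T a)
    rw [Algebra.pushoutDesc_right]
    rfl
  haveI : Algebra.Etale S T := etale_of_isPushout (R := R) (S := S) (R' := R') (S' := T)
  haveI : Algebra.Etale T S' := Algebra.Etale.of_restrictScalars S T S'
  haveI : Algebra.FinitePresentation R' T :=
    Algebra.FinitePresentation.equiv (Algebra.IsPushout.equiv R R' S T)
  haveI : Module.FinitePresentation T NT := Module.FinitePresentation.of_equiv hg.equiv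
  let u : NT →ₗ[T] S' ⊗[T] NT := TensorProduct.mk T S' NT 1
  have hu : IsBaseChange S' u := TensorProduct.isBaseChange T NT S'
  haveI : IsScalarTower R' S' (S' ⊗[T] NT) := inferInstance
  haveI : IsScalarTower S S' (S' ⊗[T] NT) := inferInstance
  haveI : IsScalarTower S T (S' ⊗[T] NT) := IsScalarTower.to₁₂₄ S T S' _
  haveI : Module.Projective R' (S' ⊗[T] NT) := hG (S' ⊗[T] NT) ((u.restrictScalars S).comp g) (hg.comp hu)
  obtain ⟨f, hf, hfc⟩ := exists_away_covers (R := R') (T := T) (NT := NT) (C := S') p'
    fun t _ ht Q _ hQ hass => covers_of_isPureAlong g hg p p' hR hflat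
      (fun q _ hq _ => by
        obtain ⟨Q', hQ', hQc, hQp⟩ := hlift ⟨q, inferInstance⟩ hq hq
        exact ⟨Q', hQ', hQc, hQp.over.symm⟩) hpure t ht Q hQ hass
  obtain ⟨hp₀, hpp₀⟩ := FlatDevLoc.isPrime_map_away (T' := Localization.Away f) f p' hf
  haveI := hp₀; haveI := hpp₀
  haveI : Algebra.Etale R' (Localization.Away f) := Algebra.Etale.of_isLocalizationAway f
  haveI : Algebra.Etale R (Localization.Away f) := Algebra.Etale.comp R R' (Localization.Away f)
  obtain ⟨TA, NA, _, _, _, _, _, _, _, _, _, _, _, _, gA, hpoA', hpoA, hgA⟩ :=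
    exists_base_model R' (Localization.Away f) T NT
  haveI := hpoA'; haveI := hpoA
  haveI : Module.Projective (Localization.Away f) NA := projective_baseChange_of_covers u hu gA hgA
    fun s _ Q _ hQ hass => hfc _ (fun hmem => (‹s.IsPrime›).ne_top
      (Ideal.eq_top_of_isUnit_mem _ hmem (IsLocalization.Away.algebraMap_isUnit f))) Q hass
  letI : Algebra R TA := ((algebraMap T TA).comp (algebraMap R T)).toAlgebra
  haveI : IsScalarTower R T TA := IsScalarTower.of_algebraMap_eq' rfl
  haveI : IsScalarTower R R' TA := IsScalarTower.of_algebraMap_eq fun a => by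
    show algebraMap T TA (algebraMap R T a) = _
    rw [IsScalarTower.algebraMap_apply R R' T, ← IsScalarTower.algebraMap_apply R' T TA]
  haveI : IsScalarTower R (Localization.Away f) TA := IsScalarTower.to₁₃₄ R R' (Localization.Away f) TA
  letI : Algebra S TA := ((algebraMap T TA).comp (algebraMap S T)).toAlgebra
  haveI : IsScalarTower S T TA := IsScalarTower.of_algebraMap_eq' rfl
  haveI : IsScalarTower R S TA := IsScalarTower.to₁₂₄ R S T TA
  haveI hA : Algebra.IsPushout R (Localization.Away f) S TA :=
    (Algebra.IsPushout.comp_iff (R := R) (S := R') (R' := S) (S' := T) (T := Localization.Away f) (T' := TA)).2 hpoA'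
  haveI : Algebra.IsPushout R S (Localization.Away f) TA := Algebra.IsPushout.symm hA
  haveI : Algebra.FiniteType (Localization.Away f) TA :=
    Algebra.FiniteType.equiv (inferInstanceAs (Algebra.FiniteType (Localization.Away f) (Localization.Away f ⊗[R] S)))
      (Algebra.IsPushout.equiv R (Localization.Away f) S TA)
  letI : Module S NA := Module.compHom NA (algebraMap S T)
  haveI : IsScalarTower S T NA := IsScalarTower.of_algebraMap_smul fun _ _ => rfl
  haveI : IsScalarTower S TA NA := IsScalarTower.to₁₃₄ S T TA NA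
  haveI : Module.Finite TA NA := Module.Finite.equiv hgA.equiv
  refine ⟨Set.range (PrimeSpectrum.comap (algebraMap R (Localization.Away f))), ?_, ?_, ?_⟩
  · rw [← Set.image_univ]
    exact PrimeSpectrum.isOpenMap_comap_of_hasGoingDown_of_finitePresentation _ isOpen_univ
  · refine ⟨⟨_, hp₀⟩, PrimeSpectrum.ext ?_⟩
    show (p'.map (algebraMap R' (Localization.Away f))).comap (algebraMap R (Localization.Away f)) = p
    rw [IsScalarTower.algebraMap_eq R R' (Localization.Away f), ← Ideal.comap_comap]
    show ((p'.map (algebraMap R' (Localization.Away f))).under R').comap (algebraMap R R') = p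
    rw [← hpp₀.over]
    exact hp'.over.symm
  · rintro q ⟨P, rfl⟩
    haveI : P.asIdeal.LiesOver (P.asIdeal.comap (algebraMap R (Localization.Away f))) := ⟨rfl⟩
    haveI : Module.Flat R (Localization.AtPrime P.asIdeal) := flat_atPrime_of_flat P.asIdeal
    exact isUnivPureAlong_descend ((gA.restrictScalars S).comp g) (hg.comp hgA) _ P.asIdeal
      (Groth.Agent.S9005.result NA P.asIdeal)

end Groth.Agent.FlatPure
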