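import Groth.Agent.FlatPure.Univ
import Groth.Agent.ProjLocalFree.Main
import Groth.Agent.S0582
import Groth.Agent.CAlgUI.DescentProj

/-! Purity and flatness force projectivity. -/

set_option autoImplicit false
set_option backward.isDefEq.respectTransparency false
set_option backward.isDefEq.respectTransparency.types false
attribute [-instance] CategoryTheory.catToReflQuiver

universe u

open TensorProduct IsLocalRing

namespace Groth.Agent.FlatPure

theorem projective_tensor_of_model {R A S SA N NA : Type u} [CommRing R] [CommRing A] [CommRing S] [CommRing SA]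
    [Algebra R A] [Algebra R S] [Algebra A SA] [Algebra S SA] [Algebra R SA] [IsScalarTower R A SA]
    [IsScalarTower R S SA] [Algebra.IsPushout R A S SA] [AddCommGroup N] [Module S N] [Module R N]
    [IsScalarTower R S N] [AddCommGroup NA] [Module SA NA] [Module S NA] [IsScalarTower S SA NA] [Module A NA]
    [IsScalarTower A SA NA] (f : N →ₗ[S] NA) (hf : IsBaseChange SA f) [Module.Projective A NA] :
    Module.Projective A (A ⊗[R] N) :=
  Module.Projective.of_equiv
    ((hf.equiv.restrictScalars A).symm.trans (Algebra.IsPushout.cancelBaseChange R A S SA N))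

theorem projective_descend_local {R Rp A N : Type u} [CommRing R] [CommRing Rp] [CommRing A] [Algebra R Rp]
    [Algebra R A] [Algebra Rp A] [IsScalarTower R Rp A] [IsLocalRing Rp] [IsLocalRing A]
    [IsLocalHom (algebraMap Rp A)] [Module.Flat Rp A] [AddCommGroup N] [Module R N]
    [Module.Projective A (A ⊗[R] N)] : Module.Free Rp (Rp ⊗[R] N) := by
  haveI : Module.FaithfullyFlat Rp A := Module.FaithfullyFlat.of_flat_of_isLocalHom
  haveI : Module.Projective A (A ⊗[Rp] (Rp ⊗[R] N)) :=
    Module.Projective.of_equiv (TensorProduct.AlgebraTensorModule.cancelBaseChange R Rp A A N).symm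
  haveI : Module.Projective Rp (Rp ⊗[R] N) := CAlgUI.projective_descent (S := A)
  exact S0582.result Rp (Rp ⊗[R] N)

set_option maxHeartbeats 1600000 in
theorem free_localization_of_isPureAlong {R S : Type u} [CommRing R] [CommRing S] [Algebra R S]
    [Algebra.FiniteType R S] (N : Type u) [AddCommGroup N] [Module S N] [Module R N] [IsScalarTower R S N]
    [Module.Finite S N] (p : Ideal R) [p.IsPrime]
    (hflat : ∀ (q : Ideal S) [q.IsPrime], q.LiesOver p → FlatCA.FlatAt R q N)
    (hpure : FlatCA.IsPureAlong R S N p) :
    Module.Free (Localization.AtPrime p) (Localization.AtPrime p ⊗[R] N) := by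
  obtain ⟨R', _, _, p', _, hR, hproj⟩ := exists_projective_local N p hflat hpure
  obtain ⟨heR, hp', -⟩ := hR
  haveI := heR; haveI := hp'
  obtain ⟨SA, NA, _, _, _, _, _, _, _, _, _, _, _, _, f, hpo', hpo, hf⟩ :=
    exists_base_model R (Localization.AtPrime p') S N
  haveI := hpo'; haveI := hpo
  haveI := hproj SA NA f hf
  haveI : Module.Projective (Localization.AtPrime p') (Localization.AtPrime p' ⊗[R] N) :=
    projective_tensor_of_model f hf
  have hpc : p = p'.comap (algebraMap R R') := hp'.over
  letI : Algebra (Localization.AtPrime p) (Localization.AtPrime p') :=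
    (Localization.localRingHom p p' (algebraMap R R') hpc).toAlgebra
  haveI : IsScalarTower R (Localization.AtPrime p) (Localization.AtPrime p') :=
    IsScalarTower.of_algebraMap_eq fun r => by
      rw [RingHom.algebraMap_toAlgebra, Localization.localRingHom_to_map,
        ← IsScalarTower.algebraMap_apply R R' (Localization.AtPrime p')]
  haveI : IsLocalHom (algebraMap (Localization.AtPrime p) (Localization.AtPrime p')) :=
    Localization.isLocalHom_localRingHom p p' _ hpc
  haveI : Module.Flat (Localization.AtPrime p) (Localization.AtPrime p') :=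
    RingHom.flat_algebraMap_iff.1
      (RingHom.Flat.localRingHom (RingHom.flat_algebraMap_iff.2 inferInstance) p' p hpc)
  exact projective_descend_local (A := Localization.AtPrime p')

theorem projective_of_isPure {R S : Type u} [CommRing R] [CommRing S] [Algebra R S] [Algebra.FinitePresentation R S]
    (N : Type u) [AddCommGroup N] [Module S N] [Module R N] [IsScalarTower R S N] [Module.FinitePresentation S N]
    [Module.Flat R N] (h : FlatCA.IsPure R S N) : Module.Projective R N :=
  CAlgUI.projective_of_flat_ml_countablyGenerated
    (ProjLocalFree.ml_of_localFree (B := S) fun p _ => free_localization_of_isPureAlong N p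
      (fun q _ _ => RGLib.flat_localizedModule (R := R) q.primeCompl) (h p))
    (FlatEtOpen.countablyGenerated_of_finiteType S N)

theorem isPure_of_projective {R S : Type u} [CommRing R] [CommRing S] [Algebra R S] [Algebra.FiniteType R S]
    (N : Type u) [AddCommGroup N] [Module S N] [Module R N] [IsScalarTower R S N] [Module.Finite S N]
    [Module.Projective R N] : FlatCA.IsPure R S N := by
  intro p _ A' B' N' _ _ _ _ _ _ _ _ _ _ _ _ _ _ f t' t _ _ P _ _ himp
  exact Groth.Agent.S9005.result N p A' B' N' f t' t P himp

end Groth.Agent.FlatPure
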