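import Groth.Agent.FlatPure.Transfer
import Groth.Agent.FlatPure.Model
import Groth.Agent.FlatDevLoc.Step
import Mathlib.RingTheory.Etale.QuasiFinite
import Mathlib.RingTheory.Ideal.GoingUp

/-! Impurities over a base quasi-finite at the point give impurities over an etale neighbourhood. -/

set_option autoImplicit false
set_option backward.isDefEq.respectTransparency false
set_option backward.isDefEq.respectTransparency.types false
attribute [-instance] CategoryTheory.catToReflQuiver

universe u

open TensorProduct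

namespace Groth.Agent.FlatPure

attribute [local instance] Algebra.TensorProduct.rightAlgebra

theorem finite_of_isPushout {R S R' S' : Type u} [CommRing R] [CommRing S] [CommRing R'] [CommRing S'] [Algebra R S]
    [Algebra R R'] [Algebra S S'] [Algebra R' S'] [Algebra R S'] [IsScalarTower R S S'] [IsScalarTower R R' S']
    [Algebra.IsPushout R S R' S'] [Module.Finite R R'] : Module.Finite S S' :=
  Module.Finite.equiv (Algebra.IsPushout.equiv R S R' S').toLinearEquiv

variable {A B : Type u} [CommRing A] [CommRing B] [Algebra A B] [Algebra.FiniteType A B] {N : Type u} [AddCommGroup N]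
  [Module B N]

set_option maxHeartbeats 1600000 in
/-- An impurity over a base finite near the point with a single point over `p` descends. -/
theorem impurity_descend_finite {T B' N' C : Type u} [CommRing T] [CommRing B'] [Algebra A T] [Algebra B B']
    [Algebra T B'] [Algebra A B'] [IsScalarTower A B B'] [IsScalarTower A T B'] [AddCommGroup N'] [Module B' N']
    [Module B N'] [IsScalarTower B B' N'] [Module T N'] [IsScalarTower T B' N'] [CommRing C] [Algebra T C]
    [Algebra A C] [IsScalarTower A T C] (f : N →ₗ[B] N') (t' t : Ideal T) [t'.IsPrime] [t.IsPrime] (p : Ideal A)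
    [p.IsPrime] (P : Ideal B') [P.IsPrime] (h : FlatCA.IsImpurity A B N p T B' N' f t' t P) (e : T) (he : e ∉ t)
    [IsLocalization.Away e C] [Module.Finite A C]
    (huniq : ∀ R : Ideal T, R.IsPrime → R.LiesOver p → e ∉ R → R = t) :
    (t'.comap (algebraMap A T)) ≤ p ∧ (P.comap (algebraMap B B')).LiesOver (t'.comap (algebraMap A T)) ∧
      FlatCA.fiberIdeal (t'.comap (algebraMap A T)) (P.comap (algebraMap B B')) ∈
        associatedPrimes ((t'.comap (algebraMap A T)).Fiber B)
          (FlatCA.fiberMod (t'.comap (algebraMap A T)) B N) ∧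
      ∀ (Q : Ideal B) [Q.IsPrime], P.comap (algebraMap B B') ≤ Q → ¬ Q.LiesOver p := by
  obtain ⟨hpo, hbc, hle, htp, hPt', hass, hno⟩ := h
  haveI := hpo; haveI := hPt'
  let t₀ := t'.comap (algebraMap A T)
  haveI : t₀.IsPrime := Ideal.IsPrime.comap _
  haveI : t'.LiesOver t₀ := ⟨rfl⟩
  haveI : Algebra.IsPushout A T B B' := Algebra.IsPushout.symm inferInstance
  obtain ⟨h₁, h₂⟩ := (fibre_assoc (A := A) (A' := T) (B := B) (B' := B') f hbc t₀ t').2 P hass
  refine ⟨?_, h₁, h₂, fun Q hQ hPQ hQp => ?_⟩
  · rw [htp.over]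
    exact Ideal.comap_mono hle
  let e' := algebraMap T B' e
  have he' : e' ∉ P := fun hmem => he (hle (hPt'.over ▸ hmem))
  let BC := Localization.Away e'
  letI : Algebra C BC := (IsLocalization.Away.lift e (g := algebraMap T BC)
    (by rw [IsScalarTower.algebraMap_apply T B' BC]; exact IsLocalization.Away.algebraMap_isUnit e')).toAlgebra
  haveI : IsScalarTower T C BC := IsScalarTower.of_algebraMap_eq fun x => (IsLocalization.Away.lift_eq e _ x).symm
  haveI : IsScalarTower A B' BC := inferInstance
  haveI : IsScalarTower A T BC := IsScalarTower.to₁₂₄ A T B' BC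
  haveI : IsScalarTower A C BC := IsScalarTower.to₁₃₄ A T C BC
  haveI : IsScalarTower B B' BC := inferInstance
  haveI : IsScalarTower A B BC := IsScalarTower.to₁₂₄ A B B' BC
  haveI : IsLocalization (Algebra.algebraMapSubmonoid B' (Submonoid.powers e)) BC := by
    rw [Algebra.algebraMapSubmonoid_powers]
    infer_instance
  haveI : Algebra.IsPushout T B' C BC :=
    (Algebra.isLocalization_iff_isPushout (R := T) (T := B') (Submonoid.powers e) C).1 inferInstance
  haveI : Algebra.IsPushout T C B' BC := Algebra.IsPushout.symm inferInstance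
  haveI : Algebra.IsPushout A C B BC :=
    (Algebra.IsPushout.comp_iff (R := A) (S := T) (R' := B) (S' := B') (T := C) (T' := BC)).2 inferInstance
  haveI : Algebra.IsPushout A B C BC := Algebra.IsPushout.symm inferInstance
  haveI : Module.Finite B BC := finite_of_isPushout (R := A) (R' := C)
  haveI : Algebra.IsIntegral B BC := Algebra.IsIntegral.of_finite B BC
  obtain ⟨hPC, hPCP⟩ := FlatDevLoc.isPrime_map_away (T' := BC) e' P he'
  haveI := hPC; haveI := hQ
  obtain ⟨Qc, hQc, hQcp, hQcQ⟩ := Ideal.exists_ideal_over_prime_of_isIntegral Q (P.map (algebraMap B' BC)) (by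
    show (P.map (algebraMap B' BC)).comap (algebraMap B BC) ≤ Q
    rw [IsScalarTower.algebraMap_eq B B' BC, ← Ideal.comap_comap]
    show ((P.map (algebraMap B' BC)).under B').comap (algebraMap B B') ≤ Q
    rw [← hPCP.over]
    exact hPQ)
  haveI := hQcp
  let Q' : Ideal B' := Qc.comap (algebraMap B' BC)
  haveI : Q'.IsPrime := Ideal.IsPrime.comap _
  have hPQ' : P ≤ Q' := Ideal.map_le_iff_le_comap.1 hQc
  let R : Ideal T := Q'.comap (algebraMap T B')
  have hRp : R.LiesOver p := ⟨by
    show p = ((Qc.comap (algebraMap B' BC)).comap (algebraMap T B')).comap (algebraMap A T)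
    rw [Ideal.comap_comap, ← IsScalarTower.algebraMap_eq, IsScalarTower.algebraMap_eq A B B', ← Ideal.comap_comap,
      Ideal.comap_comap (f := algebraMap B B'), ← IsScalarTower.algebraMap_eq B B' BC, hQcQ]
    exact hQp.over⟩
  have hR : R = t := huniq R (Ideal.IsPrime.comap _) hRp fun hmem =>
    hQcp.ne_top (Ideal.eq_top_of_isUnit_mem _ hmem (IsLocalization.Away.algebraMap_isUnit e'))
  exact hno Q' hPQ' ⟨hR.symm⟩

set_option maxHeartbeats 1600000 in
theorem hasImpurity_etaleNhd (p : Ideal A) [p.IsPrime]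
    (h : FlatCA.HasImpurity A B N p
      (fun A' _ _ t => ∃ _ : t.IsPrime, Algebra.FiniteType A A' ∧ Algebra.QuasiFiniteAt A t)) :
    FlatCA.HasImpurity A B N p (fun A' _ _ t => ∃ _ : t.IsPrime, FlatCA.IsEtaleNhd A A' p t) := by
  obtain ⟨A', B', N', _, _, _, _, _, _, _, _, _, _, _, _, _, _, f, t', t, _, _, P, _, himp, _, hft, hqf⟩ := h
  haveI := hft; haveI := hqf
  obtain ⟨-, -, -, htp, -⟩ := id himp
  haveI := htp
  obtain ⟨A₁, _, _, heA₁, p₁, _, hp₁, e, -, T₁, _, hT₁, hT₁t, heT₁, hκ, hfin, huniq⟩ :=
    Algebra.exists_etale_isIdempotentElem_forall_liesOver_eq p t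
  haveI := heA₁; haveI := hfin
  haveI : Module.Flat A (Localization.AtPrime p₁) := by
    haveI : Module.Flat A₁ (Localization.AtPrime p₁) := IsLocalization.flat _ p₁.primeCompl
    exact Module.Flat.trans A A₁ _
  obtain ⟨B₁, N₁, _, _, _, _, _, _, _, _, _, _, _, _, g, hpo', hpo, hg⟩ := exists_base_model A A₁ B N
  haveI := hpo; haveI := hpo'
  haveI : Algebra.IsPushout A A₁ A' (A₁ ⊗[A] A') := TensorProduct.isPushout (R := A) (S := A₁) (T := A')
  haveI : Algebra.IsPushout A A' A₁ (A₁ ⊗[A] A') := Algebra.IsPushout.symm inferInstance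
  haveI : T₁.LiesOver t := ⟨hT₁t.symm⟩
  obtain ⟨B'', N'', _, _, _, _, _, _, _, _, _, _, _, _, f'', s', _, P'', _, him⟩ :=
    exists_impurity_lift g hg p p₁ f t' t P himp (A₁ ⊗[A] A') T₁
  haveI : Algebra.FiniteType A₁ B₁ :=
    Algebra.FiniteType.equiv (inferInstanceAs (Algebra.FiniteType A₁ (A₁ ⊗[A] B))) (Algebra.IsPushout.equiv A A₁ B B₁)
  obtain ⟨hle, hP₀, hass₀, hno₀⟩ := impurity_descend_finite (A := A₁) (B := B₁) (N := N₁) (T := A₁ ⊗[A] A')
    (C := Localization.Away e) f'' s' T₁ p₁ P'' him e heT₁ fun R hR hRp he => huniq R hR hRp he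
  exact ⟨A₁, B₁, N₁, inferInstance, inferInstance, inferInstance, inferInstance, inferInstance, inferInstance,
    inferInstance, inferInstance, inferInstance, inferInstance, inferInstance, inferInstance, inferInstance,
    inferInstance, g, s'.comap (algebraMap A₁ (A₁ ⊗[A] A')), p₁, Ideal.IsPrime.comap _, inferInstance,
    P''.comap (algebraMap B₁ B''), Ideal.IsPrime.comap _, ⟨hpo, hg, hle, hp₁, hP₀, hass₀, hno₀⟩,
    inferInstance, heA₁, hp₁, hκ⟩

end Groth.Agent.FlatPure
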