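import Groth.Agent.FlatPure.Finite

/-! Purity and finiteness of the support. -/

set_option autoImplicit false
set_option backward.isDefEq.respectTransparency false
set_option backward.isDefEq.respectTransparency.types false
attribute [-instance] CategoryTheory.catToReflQuiver

universe u

namespace Groth.Agent.FlatPure

theorem finite_support_of_isPure {A B C : Type u} [CommRing A] [CommRing B] [CommRing C] [Algebra A B] [Algebra B C]
    [Algebra A C] [IsScalarTower A B C] [Algebra.FiniteType A B] {N : Type u} [AddCommGroup N] [Module B N]
    [Module A N] [IsScalarTower A B N] [Module.Finite B N] [Module C N] [IsScalarTower B C N]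
    (hs : Function.Surjective (algebraMap B C)) (hker : RingHom.ker (algebraMap B C) = Module.annihilator B N)
    (hfin : ∀ (p : Ideal A) [p.IsPrime], (Module.support (p.Fiber B) (FlatCA.fiberMod p B N)).Finite)
    (hpure : FlatCA.IsPure A B N) : Module.Finite A C := by
  haveI : Algebra.FiniteType A C := Algebra.FiniteType.of_surjective (IsScalarTower.toAlgHom A B C) hs
  haveI : Module.Finite C N := Module.Finite.of_restrictScalars_finite B C N
  haveI : Algebra.QuasiFinite A C := by
    rw [Algebra.QuasiFinite.iff_finite_primesOver]
    intro p hp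
    let o := PrimeSpectrum.primesOverOrderIsoFiber A B p
    have hf : Set.Finite ((fun x => (o.symm x).1) '' Module.support (p.Fiber B) (FlatCA.fiberMod p B N)) :=
      (hfin p).image _
    refine Set.Finite.of_injOn (f := Ideal.comap (algebraMap B C)) (fun Q hQ => ?_)
      (fun Q _ Q' _ h => by
        rw [← Ideal.map_comap_of_surjective _ hs Q, h, Ideal.map_comap_of_surjective _ hs Q']) hf
    obtain ⟨hQp, hQo⟩ := hQ
    haveI := hQp; haveI := hQo
    have hover : (Q.comap (algebraMap B C)).LiesOver p := ⟨by
      show p = (Q.comap (algebraMap B C)).comap (algebraMap A B)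
      rw [Ideal.comap_comap, ← IsScalarTower.algebraMap_eq]
      exact hQo.over⟩
    refine ⟨o ⟨Q.comap (algebraMap B C), Ideal.IsPrime.comap _, hover⟩, ?_, congrArg Subtype.val (o.symm_apply_apply _)⟩
    rw [FlatDevBC.mem_support_fiber_iff, OrderIso.symm_apply_apply, ← hker]
    exact Ideal.comap_mono bot_le
  have hN : Module.annihilator C N = ⊥ := by
    rw [eq_bot_iff]
    intro c hc
    obtain ⟨b, rfl⟩ := hs c
    have hb : b ∈ RingHom.ker (algebraMap B C) := by
      rw [hker, Module.mem_annihilator]
      intro n
      rw [← algebraMap_smul C b n]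
      exact Module.mem_annihilator.1 hc n
    exact hb
  refine finite_of_isPure hN fun p _ => ?_
  intro A' C' N' _ _ _ _ _ _ _ _ _ _ _ _ _ _ f t' t _ _ P _ he himp
  obtain ⟨B', _, _, _, _, _, _, _, _, _, _, g, Q, _, him⟩ := impurity_push hs f t' t P himp
  exact hpure p A' B' N' g t' t Q he him

end Groth.Agent.FlatPure
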