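import Groth.Agent.FlatPure.Descend
import Groth.Agent.DevExist.LiftNhd
import Groth.Agent.DevExist.Finish

/-! Transfer of purity and universal purity. -/

set_option autoImplicit false
set_option backward.isDefEq.respectTransparency false
set_option backward.isDefEq.respectTransparency.types false
attribute [-instance] CategoryTheory.catToReflQuiver

universe u

open TensorProduct

namespace Groth.Agent.FlatPure

variable {A B N A₁ B₁ N₁ : Type u} [CommRing A] [CommRing B] [Algebra A B] [Algebra.FiniteType A B]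
  [AddCommGroup N] [Module B N] [CommRing A₁] [CommRing B₁] [Algebra A A₁] [Algebra B B₁] [Algebra A₁ B₁]
  [Algebra A B₁] [IsScalarTower A B B₁] [IsScalarTower A A₁ B₁] [Algebra.IsPushout A B A₁ B₁]
  [AddCommGroup N₁] [Module B₁ N₁] [Module B N₁] [IsScalarTower B B₁ N₁]

set_option maxHeartbeats 800000 in
theorem isUnivPureAlong_descend (g : N →ₗ[B] N₁) (hg : IsBaseChange B₁ g) (p : Ideal A) [p.IsPrime]
    (p₁ : Ideal A₁) [p₁.IsPrime] [p₁.LiesOver p] [Module.Flat A (Localization.AtPrime p₁)]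
    (h : FlatCA.IsUnivPureAlong A₁ B₁ N₁ p₁) : FlatCA.IsUnivPureAlong A B N p := by
  intro A' B' N' _ _ _ _ _ _ _ _ _ _ _ _ _ _ f t' t _ _ P _ himp
  obtain ⟨-, -, -, htp, -⟩ := id himp
  let A'' := A' ⊗[A] A₁
  letI : Algebra A₁ A'' := Algebra.TensorProduct.rightAlgebra
  haveI : IsScalarTower A A₁ A'' := Algebra.TensorProduct.right_isScalarTower
  haveI : Algebra.IsPushout A A' A₁ A'' := TensorProduct.isPushout (R := A) (S := A') (T := A₁)
  obtain ⟨s, hs, hst, hsp⟩ := S6919.exists_prime_over (R := A) (S := A') (R' := A₁) (S' := A'') t p₁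
    (htp.over.symm.trans (Ideal.over_def p₁ p))
  haveI := hs
  haveI : s.LiesOver t := ⟨hst.symm⟩
  haveI : s.LiesOver p₁ := ⟨hsp.symm⟩
  obtain ⟨B'', N'', _, _, _, _, _, _, _, _, _, _, _, _, f'', s', _, P'', _, him⟩ :=
    exists_impurity_lift g hg p p₁ f t' t P himp A'' s
  exact h A'' B'' N'' f'' s' s P'' him

set_option maxHeartbeats 800000 in
theorem isPureAlong_descend (g : N →ₗ[B] N₁) (hg : IsBaseChange B₁ g) (p : Ideal A) [p.IsPrime]
    (p₁ : Ideal A₁) [p₁.IsPrime] [p₁.LiesOver p] [Module.Flat A (Localization.AtPrime p₁)]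
    (h : FlatCA.IsPureAlong A₁ B₁ N₁ p₁) : FlatCA.IsPureAlong A B N p := by
  intro A' B' N' _ _ _ _ _ _ _ _ _ _ _ _ _ _ f t' t _ _ P _ hnhd himp
  obtain ⟨het, htp, hκ⟩ := hnhd
  haveI := het; haveI := htp
  let A'' := A' ⊗[A] A₁
  letI : Algebra A₁ A'' := Algebra.TensorProduct.rightAlgebra
  haveI : IsScalarTower A A₁ A'' := Algebra.TensorProduct.right_isScalarTower
  haveI : Algebra.IsPushout A A' A₁ A'' := TensorProduct.isPushout (R := A) (S := A') (T := A₁)
  haveI : Algebra.Etale A₁ A'' := DevExist.etale_rightAlgebra A A' A₁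
  obtain ⟨s, hs, hsp, hst⟩ := FlatDevBC.exists_prime_over (R := A) (R' := A') (T := A₁) (T' := A'') p t hκ p₁
  haveI := hs; haveI := hst; haveI := hsp
  obtain ⟨B'', N'', _, _, _, _, _, _, _, _, _, _, _, _, f'', s', _, P'', _, him⟩ :=
    exists_impurity_lift g hg p p₁ f t' t P himp A'' s
  exact h A'' B'' N'' f'' s' s P''
    ⟨inferInstance, hsp, (DevExist.bijective_mapₐ_iff p₁ s).2 (FlatDevBC.residueField_bijective p t hκ p₁ s)⟩ him

end Groth.Agent.FlatPure
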