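import Groth.Agent.FlatPure.Local
import Groth.Agent.FlatPure.Model
import Groth.Agent.FlatPure.Transfer
import Groth.Agent.S9005

/-! Purity along a fibre of a module flat along it is universal. -/

set_option autoImplicit false
set_option backward.isDefEq.respectTransparency false
set_option backward.isDefEq.respectTransparency.types false
attribute [-instance] CategoryTheory.catToReflQuiver

universe u

open TensorProduct IsLocalRing

namespace Groth.Agent.FlatPure

theorem flat_atPrime {R R' : Type u} [CommRing R] [CommRing R'] [Algebra R R'] [Algebra.Etale R R'] (p' : Ideal R')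
    [p'.IsPrime] : Module.Flat R (Localization.AtPrime p') := by
  haveI : Module.Flat R' (Localization.AtPrime p') := IsLocalization.flat _ p'.primeCompl
  exact Module.Flat.trans R R' _

theorem flat_atPrime_of_flat {R A : Type u} [CommRing R] [CommRing A] [Algebra R A] [Module.Flat R A] (q : Ideal A)
    [q.IsPrime] : Module.Flat R (Localization.AtPrime q) := by
  haveI : Module.Flat A (Localization.AtPrime q) := IsLocalization.flat _ q.primeCompl
  exact Module.Flat.trans R A _

theorem isUnivPureAlong_of_model {R S A SA : Type u} [CommRing R] [CommRing S] [Algebra R S] [Algebra.FiniteType R S]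
    [CommRing A] [IsLocalRing A] [CommRing SA] [Algebra R A] [Algebra S SA] [Algebra A SA] [Algebra R SA]
    [IsScalarTower R S SA] [IsScalarTower R A SA] [Algebra.IsPushout R S A SA] [Module.Flat R A]
    {N NA : Type u} [AddCommGroup N] [Module S N] [Module.Finite S N] [AddCommGroup NA] [Module SA NA] [Module S NA]
    [IsScalarTower S SA NA] [Module A NA] [IsScalarTower A SA NA] [Module.Projective A NA]
    (f : N →ₗ[S] NA) (hf : IsBaseChange SA f) (p : Ideal R) [p.IsPrime] [(maximalIdeal A).LiesOver p] :
    FlatCA.IsUnivPureAlong R S N p := by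
  haveI : Algebra.IsPushout R A S SA := Algebra.IsPushout.symm inferInstance
  haveI : Algebra.FiniteType A SA :=
    Algebra.FiniteType.equiv (inferInstanceAs (Algebra.FiniteType A (A ⊗[R] S))) (Algebra.IsPushout.equiv R A S SA)
  haveI : Module.Finite SA NA := Module.Finite.equiv hf.equiv
  haveI : Module.Flat R (Localization.AtPrime (maximalIdeal A)) := flat_atPrime_of_flat (maximalIdeal A)
  exact isUnivPureAlong_descend f hf p (maximalIdeal A) (Groth.Agent.S9005.result NA (maximalIdeal A))

set_option maxHeartbeats 1600000 in
theorem isUnivPureAlong_of_isPureAlong {R S : Type u} [CommRing R] [CommRing S] [Algebra R S]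
    [Algebra.FiniteType R S] (N : Type u) [AddCommGroup N] [Module S N] [Module R N] [IsScalarTower R S N]
    [Module.Finite S N] (p : Ideal R) [p.IsPrime]
    (hflat : ∀ (q : Ideal S) [q.IsPrime], q.LiesOver p → FlatCA.FlatAt R q N)
    (hpure : FlatCA.IsPureAlong R S N p) : FlatCA.IsUnivPureAlong R S N p := by
  obtain ⟨R', _, _, p', _, hR, hproj⟩ := exists_projective_local N p hflat hpure
  obtain ⟨heR, hp', -⟩ := hR
  haveI := heR; haveI := hp'
  obtain ⟨SA, NA, _, _, _, _, _, _, _, _, _, _, _, _, f, hpo', hpo, hf⟩ :=
    exists_base_model R (Localization.AtPrime p') S N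
  haveI := hpo
  haveI : Module.Flat R (Localization.AtPrime p') := flat_atPrime p'
  haveI : (maximalIdeal (Localization.AtPrime p')).LiesOver p' := ⟨(Localization.AtPrime.comap_maximalIdeal).symm⟩
  haveI : (maximalIdeal (Localization.AtPrime p')).LiesOver p :=
    Ideal.LiesOver.trans (maximalIdeal (Localization.AtPrime p')) p' p
  haveI := hproj SA NA f hf
  exact isUnivPureAlong_of_model (A := Localization.AtPrime p') f hf p

end Groth.Agent.FlatPure
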